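import Groth.Agent.Sga2.ThickCoh
import Groth.Agent.Dcoh.StalkT
import Groth.Agent.Dcoh.FlatTor
import Groth.Agent.CycB.ModStalk
import Groth.Agent.CycB.StalkExact

/-!
# `𝓘^m ⊗ F → O ⊗ F` is a monomorphism for all `m` if it is one for `m = 1` (`𝓘` effective Cartier)
-/

set_option autoImplicit false
universe u

open CategoryTheory CategoryTheory.Limits MonoidalCategory AlgebraicGeometry Opposite TopologicalSpace

namespace K184.PowMono

open Groth.Agent Groth.Agent.Dcoh.Stalk Groth.Agent.Dix.IdealModCartier Groth.Agent.Fdesc.LocGen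

section Alg

open TensorProduct

variable {R : Type u} [CommRing R] {P Q N : Type u} [AddCommGroup P] [Module R P] [AddCommGroup Q]
  [Module R Q] [AddCommGroup N] [Module R N]

theorem rTensor_injective_iff (j : P →ₗ[R] Q) (s : P) (q : Q)
    (hs : Function.Bijective (fun r : R => r • s)) (hq : Function.Bijective (fun r : R => r • q))
    (a : R) (ha : j s = a • q) :
    Function.Injective (j.rTensor N) ↔ IsSMulRegular N a := by
  let e : R ≃ₗ[R] P := LinearEquiv.ofBijective (LinearMap.toSpanSingleton R P s) hs
  let e' : R ≃ₗ[R] Q := LinearEquiv.ofBijective (LinearMap.toSpanSingleton R Q q) hq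
  have h1 : j ∘ₗ e.toLinearMap = e'.toLinearMap ∘ₗ (LinearMap.lsmul R R a) := by
    refine LinearMap.ext_ring ?_
    change j ((1 : R) • s) = (a • (1 : R)) • q
    rw [one_smul, ha, smul_eq_mul, mul_one]
  have h2 : (j.rTensor N) ∘ₗ (e.toLinearMap.rTensor N) =
      (e'.toLinearMap.rTensor N) ∘ₗ ((LinearMap.lsmul R R a).rTensor N) := by
    rw [← LinearMap.rTensor_comp, h1, LinearMap.rTensor_comp]
  have h3 : (TensorProduct.lid R N).toLinearMap ∘ₗ ((LinearMap.lsmul R R a).rTensor N) =
      (LinearMap.lsmul R N a) ∘ₗ (TensorProduct.lid R N).toLinearMap := by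
    ext n
    simp
  have be : Function.Bijective (e.toLinearMap.rTensor N) := (LinearEquiv.rTensor N e).bijective
  have be' : Function.Bijective (e'.toLinearMap.rTensor N) := (LinearEquiv.rTensor N e').bijective
  have h4 : Function.Injective (j.rTensor N) ↔
      Function.Injective ((j.rTensor N) ∘ₗ (e.toLinearMap.rTensor N)) := by
    rw [LinearMap.coe_comp]
    exact (Function.Injective.of_comp_iff' _ be).symm
  have h5 : Function.Injective ((LinearMap.lsmul R R a).rTensor N) ↔
      Function.Injective ((TensorProduct.lid R N).toLinearMap ∘ₗ ((LinearMap.lsmul R R a).rTensor N)) := by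
    rw [LinearMap.coe_comp]
    exact (Function.Injective.of_comp_iff (TensorProduct.lid R N).injective _).symm
  rw [h4, h2, LinearMap.coe_comp, Function.Injective.of_comp_iff be'.1, h5, h3, LinearMap.coe_comp]
  exact Function.Injective.of_comp_iff' _ (TensorProduct.lid R N).bijective

end Alg

variable {X : Scheme.{u}}

theorem isGen_stalk {M : X.Modules} {U : X.Opens} {e : Γ(M, U)} (he : IsGen e) (x : X) (hx : x ∈ U) :
    Function.Bijective (fun r : X.presheaf.stalk x => r • M.presheaf.germ U x hx e) :=
  CycB.ModStalk.IsGenOn.isGen (L := M) (t := e) he x hx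

theorem isGen_one (U : X.Opens) : IsGen (M := Coh.structureModule X) (U := U) (1 : Γ(X, U)) := by
  intro V h
  have h1 : (fun a : Γ(X, V) => (a • res (Coh.structureModule X) h (1 : Γ(X, U)) :
      Γ(Coh.structureModule X, V))) = fun a => a := by
    funext a
    have : res (Coh.structureModule X) h (1 : Γ(X, U)) = (1 : Γ(X, V)) := map_one (ores h)
    rw [this]
    exact mul_one a
  rw [h1]
  exact Function.bijective_id

/-- Stalkwise criterion. -/
theorem mono_stalk_iff (D : X.IdealSheafData) (F : X.Modules) {U : X.Opens} {a : Γ(X, U)}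
    (s : Γ(ClSub.idealMod D, U)) (hs : val D s = a) (ha : GenOn D a) (x : X) (hx : x ∈ U) :
    Mono ((stalkF x).map ((DCoh.tensorBi.map (ClSub.idealModι D)).app F)) ↔
      IsSMulRegular (F.presheaf.stalk x) (X.presheaf.germ U x hx a) := by
  have h1 := tensorStalkIso_naturality_left (N := F) (ClSub.idealModι D) x
  have h2 : Mono ((stalkF x).map ((DCoh.tensorBi.map (ClSub.idealModι D)).app F)) ↔
      Mono ((stalkF x).map (ClSub.idealModι D) ▷ (stalkF x).obj F) := by
    constructor
    · intro h
      have : (stalkF x).map (ClSub.idealModι D) ▷ (stalkF x).obj F =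
          (tensorStalkIso _ F x).inv ≫ (stalkF x).map ((DCoh.tensorBi.map (ClSub.idealModι D)).app F) ≫
            (tensorStalkIso _ F x).hom := by
        rw [h1, Iso.inv_hom_id_assoc]
      rw [this]
      infer_instance
    · intro h
      have : (stalkF x).map ((DCoh.tensorBi.map (ClSub.idealModι D)).app F) =
          (tensorStalkIso _ F x).hom ≫ ((stalkF x).map (ClSub.idealModι D) ▷ (stalkF x).obj F) ≫
            (tensorStalkIso _ F x).inv := by
        rw [← reassoc_of% h1, Iso.hom_inv_id, Category.comp_id]
      rw [this]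
      infer_instance
  rw [h2, ModuleCat.mono_iff_injective]
  refine rTensor_injective_iff ((stalkF x).map (ClSub.idealModι D)).hom
    ((ClSub.idealMod D).presheaf.germ U x hx s)
    ((Coh.structureModule X).presheaf.germ U x hx (1 : Γ(X, U)))
    (isGen_stalk (isGen_of_genOn (hs.symm ▸ ha)) x hx) (isGen_stalk (isGen_one U) x hx) _ ?_
  have h3 : ((stalkF x).map (ClSub.idealModι D)).hom ((ClSub.idealMod D).presheaf.germ U x hx s) =
      (Coh.structureModule X).presheaf.germ U x hx ((ClSub.idealModι D).app U s) :=
    TopCat.Presheaf.stalkFunctor_map_germ_apply (C := AddCommGrpCat.{u}) U x hx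
      ((Scheme.Modules.toPresheaf X).map (ClSub.idealModι D)) s
  refine h3.trans ?_
  change (Coh.structureModule X).presheaf.germ U x hx (val D s) = _
  rw [hs]
  refine Eq.trans ?_ (CycB.ModStalk.germ_smul (Coh.structureModule X) U x hx a (1 : Γ(X, U)))
  exact congrArg (fun b : Γ(X, U) => (Coh.structureModule X).presheaf.germ U x hx b) (mul_one a).symm

theorem mono_pow (D : X.IdealSheafData) (hD : BlowUp.IsEffCartierIdeal D) (F : X.Modules)
    (h : Mono ((DCoh.tensorBi.map (ClSub.idealModι D)).app F)) (m : ℕ) :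
    Mono ((DCoh.tensorBi.map (ClSub.idealModι (D ^ m))).app F) := by
  rw [Dcoh.FlatTor.mono_map_iff_stalks] at h ⊢
  intro x
  obtain ⟨U, a, hx, ha⟩ := exists_genOn hD x
  have key : ∀ (E : X.IdealSheafData) (b : Γ(X, U.1)), GenOn E b →
      ∃ s : Γ(ClSub.idealMod E, U.1), val E s = b := fun E b hb =>
    exists_val_eq E U (by
      have := (hb U le_rfl).2
      rw [ores_refl] at this
      rw [this]; exact Ideal.mem_span_singleton_self _)
  obtain ⟨s, hs⟩ := key D a ha
  have hpow : GenOn (D ^ m) (a ^ m) := by
    induction m with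
    | zero =>
      rw [pow_zero, pow_zero]
      have h1 := (Sga2.ThickCoh.genOn_one (X := X)).res (V := U.1) le_top
      rwa [map_one] at h1
    | succ m ih =>
      rw [pow_succ, pow_succ]
      exact ih.mul ha
  obtain ⟨t, ht⟩ := key (D ^ m) (a ^ m) hpow
  rw [mono_stalk_iff (D ^ m) F t ht hpow x hx, map_pow]
  exact ((mono_stalk_iff D F s hs ha x hx).1 (h x)).pow m

end K184.PowMono
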