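import Groth.Agent.Lef.K184.LefOpen

/-!
# Formal duality for cohomology groups

`X` proper over a field `k`, `τ` a perfect form for `W[n]`, `F` coherent, `S` a system of quotients
`F → F/𝓘^{t+1}F`, `j : U ⟶ X` the complement of `V(𝓘)`.

* `Kills.of_isKQuot`: `S` satisfies the hypotheses of Deligne's formula.
* `inj_of_subsingleton`: `H^i(X, F) → lim H^i(X, F/𝓘^{t+1}F)` is injective if `Hom_{D(U)}(F|_U, W|_U[n-i]) = 0`.
* `surj_of_subsingleton`: it is surjective if `Hom_{D(U)}(F|_U, W|_U[n-i-1]) = 0`.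
-/

set_option autoImplicit false
universe u
open CategoryTheory CategoryTheory.Limits CategoryTheory.Pretriangulated AlgebraicGeometry Opposite
attribute [local instance] HasDerivedCategory.standard

namespace K184.FormalDual

open Groth.Agent Groth.Agent.CurvesC Groth.Agent.CurvesC.RepX Groth.Agent.CurvesC.DualLin
open Groth.Agent.FormalB.KQuot Groth.Agent.FormalB.TrKQuot K184.DeligneMod K184.FormalDualAbs

section

variable {X U : Scheme.{u}} [IsNoetherian X] (j : U ⟶ X) [IsOpenImmersion j]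

theorem Kills.of_isKQuot {F : X.Modules} (S : Sys F) {𝓘 : X.IdealSheafData}
    (hK : ∀ t, IsKQuot (𝓘 ^ (t + 1)) (S.q t)) (hF : Coh.IsCoh F)
    (hI : 𝓘.supportSetᶜ = Set.range j) : Kills j S := by
  refine Kills.of_ideal j 𝓘 hF hI _ (fun t => ?_) (fun n => ?_) (fun t => ?_)
  · have h2 : Coh.IsCoh (S.Q t) := IsKQuot.isCoh (hK t) hF
    have h3 := (PerfA.CohSerre.isCoh_kernel (S.q t) hF h2.1).1
    let e : kernel (S.q t) ≅ S.K t := IsLimit.conePointUniqueUpToIso (kernelIsKernel (S.q t)) (S.ex t).fIsKernel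
    exact Sga67.CohBasic.isQCoh_of_iso e h3
  · refine ⟨n, kernel.lift _ (S.ι n) ?_, kernel.lift_ι _ _ _⟩
    obtain ⟨ψ, hψ⟩ := (hK n).desc (kπ (𝓘 ^ n) F)
      (killedByIdeal_of_le (Groth.Agent.Dual.H367.Kill.pow_le 𝓘 (Nat.le_succ n)) (killed_pushforward _ _))
    have h2 : S.ι n ≫ kπ (𝓘 ^ n) F = 0 := by
      rw [← hψ, ← Category.assoc, S.w, zero_comp]
    exact h2
  · have h1 := isKQuot_kπ (𝓘 ^ (t + 1)) hF.1
    obtain ⟨ψ, hψ⟩ := h1.desc (S.q t) (hK t).killed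
    have h2 : kernel.ι (kπ (𝓘 ^ (t + 1)) F) ≫ S.q t = 0 := by
      rw [← hψ, ← Category.assoc, kernel.condition, zero_comp]
    exact ⟨t + 1, (S.ex t).fIsKernel.lift (KernelFork.ofι (kernel.ι (kπ (𝓘 ^ (t + 1)) F)) h2),
      (S.ex t).fIsKernel.fac (KernelFork.ofι (kernel.ι (kπ (𝓘 ^ (t + 1)) F)) h2) WalkingParallelPair.zero⟩

end

attribute [local instance] LinMod.linearModules

variable (k : Type u) [Field k] {X : Scheme.{u}} [X.Over (Spec (CommRingCat.of k))]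

/-- `Hom_D(P, K[i]) = Hom_D(P[-i], K)`. -/
noncomputable def shE (P K : DCoh.D X) (i : ℤ) : (P ⟶ K⟦i⟧) ≃ₗ[k] (P⟦-i⟧ ⟶ K) :=
  (K461.DualAbs.shiftE k P (K⟦i⟧) (-i)).trans (Linear.homCongr k (Iso.refl _)
    ((shiftFunctorCompIsoId (DCoh.D X) i (-i) (by omega)).app K))

theorem shE_comp (P : DCoh.D X) {K L : DCoh.D X} (φ : K ⟶ L) (i : ℤ) (s : P ⟶ K⟦i⟧) :
    shE k P L i (s ≫ φ⟦i⟧') = shE k P K i s ≫ φ := by
  have h1 := (shiftFunctorCompIsoId (DCoh.D X) i (-i) (by omega)).hom.naturality φ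
  have h2 : ∀ (K : DCoh.D X) (s : P ⟶ K⟦i⟧), shE k P K i s =
      (shiftFunctor (DCoh.D X) (-i)).map s ≫
        (shiftFunctorCompIsoId (DCoh.D X) i (-i) (by omega)).hom.app K := by
    intro K s
    have h3 : shE k P K i s = (𝟙 _ ≫ (shiftFunctor (DCoh.D X) (-i)).map s) ≫
        (shiftFunctorCompIsoId (DCoh.D X) i (-i) (by omega)).hom.app K := rfl
    rw [h3, Category.id_comp]
  rw [h2, h2, Functor.map_comp, Category.assoc, Category.assoc]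
  exact congrArg _ h1

/-- `H^i(X, F) = Hom_D(O[-i], F)`. -/
noncomputable def hhE (F : X.Modules) (i : ℕ) : HV X F i ≃ₗ[k] ((P X)⟦-(i : ℤ)⟧ ⟶ DCoh.inD X F) :=
  (homHVₗ k X F i).symm.trans (shE k (P X) (DCoh.inD X F) i)

theorem hhE_map {F G : X.Modules} (φ : F ⟶ G) (i : ℕ) (x : HV X F i) :
    hhE k G i (HV.map k φ i x) = hhE k F i x ≫ (ind X).map φ := by
  obtain ⟨s, rfl⟩ := (homHVₗ k X F i).surjective x
  have h1 := homHVₗ_map k X φ i s
  rw [← h1]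
  simp only [hhE, LinearEquiv.trans_apply, LinearEquiv.symm_apply_apply]
  exact shE_comp k (P X) ((ind X).map φ) i s

variable [IsProper (X ↘ Spec (CommRingCat.of k))]

theorem finite_hom_neg {M : X.Modules} (hM : Coh.IsCoh M) (i : ℕ) :
    Module.Finite k ((P X)⟦-(i : ℤ)⟧ ⟶ DCoh.inD X M) := by
  have h1 : Module.Finite k (Coh.HH X M i) := S0002.result k X M hM i
  have h2 : Module.Finite k (HV X M i) := h1
  exact Module.Finite.equiv (hhE k M i)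

variable {U : Scheme.{u}} [IsNoetherian X] [IsNoetherian U] (j : U ⟶ X) [IsOpenImmersion j]

section

variable {W : X.Modules} (hW : Coh.IsQCoh W) (n : ℤ) (τ : (P X ⟶ (DCoh.inD X W)⟦n⟧) →ₗ[k] k)
  (hτ : ∀ K : DCoh.D X, DCoh.IsQCohD K → Function.Bijective (pair k τ K))
  {F : X.Modules} (S : Sys F) {𝓘 : X.IdealSheafData} (hK : ∀ t, IsKQuot (𝓘 ^ (t + 1)) (S.q t))
  (hF : Coh.IsCoh F) (hI : 𝓘.supportSetᶜ = Set.range j) (i : ℕ)

include hW hτ hK hF hI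

/-- All `F → W[n-i]` vanish on `U` iff `H^i(X, F) → lim H^i(X, F/𝓘^{t+1}F)` is injective. -/
theorem restrict_zero_iff_inj :
    (∀ c : DCoh.inD X F ⟶ (DCoh.inD X W)⟦n - i⟧, (DCoh.restrictD j).map c = 0) ↔
      ∀ x : HV X F i, (∀ t, HV.map k (S.q t) i x = 0) → x = 0 := by
  have hk := Kills.of_isKQuot j S hK hF hI
  have hQ : ∀ t, Coh.IsCoh (S.Q t) := fun t => IsKQuot.isCoh (hK t) hF
  have hWD : DCoh.IsQCohD (DCoh.inD X W) := PerfA.QCohD.isQCohD_inD W hW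
  have hFD : DCoh.IsQCohD S.tower.F := PerfA.QCohD.isQCohD_inD _ hF.1
  have hQD : ∀ t, DCoh.IsQCohD (S.tower.Q t) := fun t => PerfA.QCohD.isQCohD_inD _ (hQ t).1
  obtain ⟨τ₁, hτ₁⟩ := exists_shift k τ hτ (-(i : ℤ))
  let e : (DCoh.inD X W)⟦n⟧⟦-(i : ℤ)⟧ ≅ (DCoh.inD X W)⟦n - i⟧ :=
    ((shiftFunctorAdd' (DCoh.D X) n (-(i : ℤ)) (n - i) (by omega)).app (DCoh.inD X W)).symm
  let τ' : ((P X)⟦-(i : ℤ)⟧ ⟶ (DCoh.inD X W)⟦n - i⟧) →ₗ[k] k := τ₁ ∘ₗ Linear.rightComp k _ e.inv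
  have hτ' : ∀ K : DCoh.D X, DCoh.IsQCohD K → Function.Bijective (pair k τ' K) := by
    intro K hK
    have h1 : Function.Bijective (fun φ : K ⟶ (DCoh.inD X W)⟦n - i⟧ => φ ≫ e.inv) := e.symm.homToEquiv.bijective
    convert (hτ₁ K hK).comp h1 using 1
    funext φ
    ext s
    change τ₁ ((s ≫ φ) ≫ e.inv) = τ₁ (s ≫ φ ≫ e.inv)
    rw [Category.assoc]
  have hfF : Module.Finite k ((P X)⟦-(i : ℤ)⟧ ⟶ S.tower.F) := finite_hom_neg k hF i
  rw [show (∀ c : DCoh.inD X F ⟶ (DCoh.inD X W)⟦n - i⟧, (DCoh.restrictD j).map c = 0) ↔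
    ∀ x : (P X)⟦-(i : ℤ)⟧ ⟶ S.tower.F, (∀ t, x ≫ S.tower.q t = 0) → x = 0 from
    restrict_eq_zero_iff hk (PerfA.QCohD.isQCohD_shift hWD (n - i)) (-(n - i)) (isZero_HD_shift W (n - i)) τ'
      (hτ' _ hFD) (fun t => hτ' _ (hQD t))]
  constructor
  · intro h x hx
    apply (hhE k F i).injective
    rw [map_zero]
    refine h _ fun t => ?_
    refine (hhE_map k (S.q t) i x).symm.trans ?_
    exact (congrArg _ (hx t)).trans (map_zero _)
  · intro h x hx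
    obtain ⟨x, rfl⟩ := (hhE k F i).surjective x
    have h0 : x = 0 := by
      refine h x fun t => ?_
      apply (hhE k (S.Q t) i).injective
      rw [map_zero, hhE_map]
      exact hx t
    exact (congrArg _ h0).trans (map_zero _)

/-- All `F|_U → W|_U[n-i-1]` extend iff `H^i(X, F) → lim H^i(X, F/𝓘^{t+1}F)` is surjective. -/
theorem restrict_surjective_iff_surj :
    (∀ α : (DCoh.restrictD j).obj (DCoh.inD X F) ⟶ (DCoh.restrictD j).obj ((DCoh.inD X W)⟦n - i - 1⟧),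
        ∃ ψ : DCoh.inD X F ⟶ (DCoh.inD X W)⟦n - i - 1⟧, (DCoh.restrictD j).map ψ = α) ↔
      ∀ y : ∀ t, HV X (S.Q t) i, (∀ (t t' : ℕ) (h : t ≤ t'), HV.map k (S.p h) i (y t') = y t) →
        ∃ x : HV X F i, ∀ t, HV.map k (S.q t) i x = y t := by
  have hk := Kills.of_isKQuot j S hK hF hI
  have hQ : ∀ t, Coh.IsCoh (S.Q t) := fun t => IsKQuot.isCoh (hK t) hF
  have hWD : DCoh.IsQCohD (DCoh.inD X W) := PerfA.QCohD.isQCohD_inD W hW
  have hFD : DCoh.IsQCohD S.tower.F := PerfA.QCohD.isQCohD_inD _ hF.1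
  have hQD : ∀ t, DCoh.IsQCohD (S.tower.Q t) := fun t => PerfA.QCohD.isQCohD_inD _ (hQ t).1
  obtain ⟨τ₁, hτ₁⟩ := exists_shift k τ hτ (-(i : ℤ))
  let e : (DCoh.inD X W)⟦n⟧⟦-(i : ℤ)⟧ ≅ (DCoh.inD X W)⟦n - i - 1⟧⟦(1 : ℤ)⟧ :=
    ((shiftFunctorAdd' (DCoh.D X) n (-(i : ℤ)) (n - i) (by omega)).app (DCoh.inD X W)).symm ≪≫
      (shiftFunctorAdd' (DCoh.D X) (n - i - 1) 1 (n - i) (by omega)).app (DCoh.inD X W)
  let τ' : ((P X)⟦-(i : ℤ)⟧ ⟶ (DCoh.inD X W)⟦n - i - 1⟧⟦(1 : ℤ)⟧) →ₗ[k] k := τ₁ ∘ₗ Linear.rightComp k _ e.inv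
  have hτ' : ∀ K : DCoh.D X, DCoh.IsQCohD K → Function.Bijective (pair k τ' K) := by
    intro K hK
    have h1 : Function.Bijective (fun φ : K ⟶ (DCoh.inD X W)⟦n - i - 1⟧⟦(1 : ℤ)⟧ => φ ≫ e.inv) :=
      e.symm.homToEquiv.bijective
    convert (hτ₁ K hK).comp h1 using 1
    funext φ
    ext s
    change τ₁ ((s ≫ φ) ≫ e.inv) = τ₁ (s ≫ φ ≫ e.inv)
    rw [Category.assoc]
  have hfF : Module.Finite k ((P X)⟦-(i : ℤ)⟧ ⟶ S.tower.F) := finite_hom_neg k hF i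
  have hfQ : ∀ t, Module.Finite k ((P X)⟦-(i : ℤ)⟧ ⟶ S.tower.Q t) := fun t => finite_hom_neg k (hQ t) i
  rw [show (∀ α : (DCoh.restrictD j).obj (DCoh.inD X F) ⟶ (DCoh.restrictD j).obj ((DCoh.inD X W)⟦n - i - 1⟧),
        ∃ ψ : DCoh.inD X F ⟶ (DCoh.inD X W)⟦n - i - 1⟧, (DCoh.restrictD j).map ψ = α) ↔
      ∀ y : ∀ t, (P X)⟦-(i : ℤ)⟧ ⟶ S.tower.Q t, (∀ (t t' : ℕ) (h : t ≤ t'), y t' ≫ S.tower.p h = y t) →
        ∃ x : (P X)⟦-(i : ℤ)⟧ ⟶ S.tower.F, ∀ t, x ≫ S.tower.q t = y t from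
    restrict_surjective_iff hk (PerfA.QCohD.isQCohD_shift hWD (n - i - 1)) (-(n - i - 1))
      (isZero_HD_shift W (n - i - 1)) τ' (hτ' _ hFD) (fun t => hτ' _ (hQD t))]
  constructor
  · intro h y hy
    obtain ⟨x, hx⟩ := h (fun t => hhE k (S.Q t) i (y t)) (fun t t' htt' => by
      refine (hhE_map k (S.p htt') i (y t')).symm.trans ?_
      rw [hy t t' htt'])
    refine ⟨(hhE k F i).symm x, fun t => ?_⟩
    apply (hhE k (S.Q t) i).injective
    rw [hhE_map]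
    have h5 : hhE k F i ((hhE k F i).symm x) = x := LinearEquiv.apply_symm_apply _ x
    exact (congrArg (· ≫ (ind X).map (S.q t)) h5).trans (hx t)
  · intro h y hy
    obtain ⟨x, hx⟩ := h (fun t => (hhE k (S.Q t) i).symm (y t)) (fun t t' htt' => by
      apply (hhE k (S.Q t) i).injective
      rw [hhE_map]
      have h5 : hhE k (S.Q t) i ((hhE k (S.Q t) i).symm (y t)) = y t := LinearEquiv.apply_symm_apply _ _
      have h6 : hhE k (S.Q t') i ((hhE k (S.Q t') i).symm (y t')) = y t' := LinearEquiv.apply_symm_apply _ _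
      exact ((congrArg (· ≫ (ind X).map (S.p htt')) h6).trans (hy t t' htt')).trans h5.symm)
    refine ⟨hhE k F i x, fun t => ?_⟩
    refine (hhE_map k (S.q t) i x).symm.trans ?_
    exact (congrArg _ (hx t)).trans (LinearEquiv.apply_symm_apply _ _)

end

end K184.FormalDual
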