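import Groth.Agent.Lef.K184.LefSmooth
import Groth.Agent.Sga2lef.H82.LefMain
import Groth.Agent.Ega4A.CMFields
import Groth.Agent.LoccohB.AdStruct
import Groth.Agent.S1568
import Groth.Agent.S2946

/-!
# Cohomological dimension of the complement and the Lefschetz condition

`X` proper and integral over an algebraically closed field, of dimension `n`, with regular local rings and an ample
module, `U = X ∖ V(𝓘)`.

* `lefCond_of_vanishing`: if `H^i(U, G) = 0` for `G` coherent and `i ≥ n - 1` then `Lef(X, V(𝓘))`.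
* `meets_of_vanishing`: then `V(𝓘)` meets every non-zero effective Cartier divisor.
* `vanishing_of_lefCond`: conversely `Lef(X, V(𝓘))` implies the vanishing.
-/

set_option autoImplicit false
universe u
open CategoryTheory CategoryTheory.Limits AlgebraicGeometry Opposite TopologicalSpace

namespace K184.CdLef

open Groth.Agent Groth.Agent.Sga2 K184.LefGlobal

theorem supportSet_compl {X : Scheme.{u}} {𝓘 : X.IdealSheafData} {U : X.Opens}
    (hU : (U : Set X) = (𝓘.support : Set X)ᶜ) : 𝓘.supportSetᶜ = Set.range U.ι := by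
  rw [Scheme.Opens.range_ι]
  exact hU.symm

theorem homToFormalBijective_of_vanishing (k : Type u) [Field k] [IsAlgClosed k] (X : Scheme.{u})
    [X.Over (Spec (CommRingCat.of k))] [IsProper (X ↘ (Spec (CommRingCat.of k)))] [IsIntegral X]
    (hreg : ∀ x : X, IsRegularLocalRing (X.presheaf.stalk x)) (n : ℕ) (hdim : topologicalKrullDim X = n)
    (𝓘 : X.IdealSheafData) (U : X.Opens) (hU : (U : Set X) = (𝓘.support : Set X)ᶜ)
    (h : ∀ F : (U : Scheme.{u}).Modules, Coh.IsCoh F → ∀ i : ℕ, n ≤ i + 1 → Subsingleton (Coh.HH U F i))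
    (B : X.Modules) (hB : PicF.IsInvertible B) : Lef.HomToFormalBijective 𝓘 B := by
  have hn : IsNoetherian X := LoccohB.AdStruct.isNoetherian_of_finiteType (X ↘ (Spec (CommRingCat.of k)))
  have hnU : IsNoetherian U := LoccohB.AdStruct.isNoetherian_of_finiteType (U.ι ≫ (X ↘ (Spec (CommRingCat.of k))))
  obtain ⟨W, D⟩ := LefSmooth.exists_dz k hreg n hdim
  obtain ⟨A, hA, ⟨e⟩⟩ := Grpsch.PicGrp.exists_inverse hB
  exact LefGlobal.homToFormalBijective_of_vanishing U.ι D (supportSet_compl hU) h hA hB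
    (Ega2.Tens.swap A B ≪≫ e)

theorem two_le_depth_of_vanishing (k : Type u) [Field k] (X : Scheme.{u})
    [X.Over (Spec (CommRingCat.of k))] [IsProper (X ↘ (Spec (CommRingCat.of k)))] [IsIntegral X]
    (hreg : ∀ x : X, IsRegularLocalRing (X.presheaf.stalk x)) (n : ℕ) (hdim : topologicalKrullDim X = n)
    (𝓘 : X.IdealSheafData) (U : X.Opens) (hU : (U : Set X) = (𝓘.support : Set X)ᶜ)
    (h : ∀ F : (U : Scheme.{u}).Modules, Coh.IsCoh F → ∀ i : ℕ, n ≤ i + 1 → Subsingleton (Coh.HH U F i))
    (V : X.Opens) (hV : (𝓘.support : Set X) ⊆ (V : Set X)) (x : X) (hx : x ∉ V) :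
    (2 : ℕ∞) ≤ LocCoh.depth (X.presheaf.stalk x) (X.presheaf.stalk x) := by
  have := hreg x
  by_contra hlt
  have hle : ringKrullDim (X.presheaf.stalk x) ≤ 1 := by
    have hcm := Ega4A.CMFields.isCohenMacaulayLocalRing_of_isRegularLocalRing (X.presheaf.stalk x)
    have h0 := LocCoh.IsCohenMacaulayLocalRing.supportDim_eq_depth (R := X.presheaf.stalk x)
    rw [Module.supportDim_self_eq_ringKrullDim] at h0
    rw [h0]
    have h1 : LocCoh.depth (X.presheaf.stalk x) (X.presheaf.stalk x) < 2 := not_le.1 hlt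
    have h2 : LocCoh.depth (X.presheaf.stalk x) (X.presheaf.stalk x) ≤ 1 :=
      Order.le_of_lt_add_one (by rw [one_add_one_eq_two]; exact h1)
    exact_mod_cast h2
  refine LefSmooth.not_closure_subset k X n hdim U h x hle ?_
  rw [hU]
  intro y hy hyI
  have h3 : x ⤳ y := specializes_iff_mem_closure.2 hy
  exact hx (h3.mem_open V.isOpen (hV hyI))

/-- **Vanishing implies the Lefschetz condition.** -/
theorem lefCond_of_vanishing (k : Type u) [Field k] [IsAlgClosed k] (X : Scheme.{u})
    [X.Over (Spec (CommRingCat.of k))] [IsProper (X ↘ (Spec (CommRingCat.of k)))] [IsIntegral X]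
    (hreg : ∀ x : X, IsRegularLocalRing (X.presheaf.stalk x)) (L : X.Modules) (hamp : CohB1.IsAmple L)
    (n : ℕ) (hdim : topologicalKrullDim X = n)
    (𝓘 : X.IdealSheafData) (U : X.Opens) (hU : (U : Set X) = (𝓘.support : Set X)ᶜ)
    (h : ∀ F : (U : Scheme.{u}).Modules, Coh.IsCoh F → ∀ i : ℕ, n ≤ i + 1 → Subsingleton (Coh.HH U F i)) :
    Lef.LefCond X 𝓘 := by
  have hn : IsNoetherian X := LoccohB.AdStruct.isNoetherian_of_finiteType (X ↘ (Spec (CommRingCat.of k)))
  obtain ⟨P, hP, hLP⟩ := Grpsch.PicGrp.exists_inverse hamp.1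
  intro V hV D hD
  obtain ⟨D', hD', ⟨e⟩⟩ := Sga67.CohLoc.exists_extension V.ι D (PerfA.CohSerre.isCoh_of_isFinLocFree hD)
  have h1 : Lef.HomToFormalBijective 𝓘 D' := LefAmple389.bijective_of_isCoh hLP hamp
    (fun a => homToFormalBijective_of_vanishing k X hreg n hdim 𝓘 U hU h _
      (Fdesc.LocGen.isInvertible_tensorPow hP a)) hD'
  have hu : IsIso (ClSub.unitToPush V.ι) := LefMain389.isIso_unitToPush_of_funExt V
    (ParaExt.funExt_of_depth V fun x hx => two_le_depth_of_vanishing k X hreg n hdim 𝓘 U hU h V hV x hx)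
  exact LefLeftExact.bijective_of_iso e (LefRes389.homToFormalBijective_restrict V.ι 𝓘 D' hu
    (by rw [Scheme.Opens.range_ι]; exact hV) h1)

/-- A generic point of the support of an ideal sheaf different from `⊤`. -/
theorem exists_generic {X : Scheme.{u}} (D : X.IdealSheafData) (hD : D ≠ ⊤) :
    ∃ ξ ∈ (D.support : Set X), ∀ y ∈ (D.support : Set X), y ⤳ ξ → y = ξ := by
  have hne : Nonempty D.subscheme := by
    by_contra hemp
    rw [not_nonempty_iff] at hemp
    have h0 := D.subschemeι.ker_eq_top_iff_isEmpty.2 hemp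
    rw [Scheme.IdealSheafData.ker_subschemeι] at h0
    exact hD h0
  obtain ⟨z⟩ := hne
  obtain ⟨η, hη⟩ := QuasiSober.sober (isIrreducible_irreducibleComponent (x := z))
    (isClosed_irreducibleComponent (x := z))
  refine ⟨D.subschemeι η, ?_, fun y hy hyη => ?_⟩
  · rw [← D.range_subschemeι]
    exact ⟨η, rfl⟩
  · rw [← D.range_subschemeι] at hy
    obtain ⟨y', rfl⟩ := hy
    have h1 : y' ⤳ η := (D.subschemeι.isClosedEmbedding.isInducing.specializes_iff).1 hyη
    have h2 : closure {η} ⊆ closure {y'} := h1.closure_subset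
    rw [hη.def] at h2
    have h3 : closure {y'} = irreducibleComponent z :=
      eq_irreducibleComponent isIrreducible_singleton.closure.isPreirreducible h2
    have h4 : closure {y'} = closure {η} := by rw [h3, hη.def]
    rw [((specializes_iff_closure_subset.2 h4.ge).antisymm
      (specializes_iff_closure_subset.2 h4.le)).eq]

/-- **Vanishing implies that all effective divisors are met.** -/
theorem meets_of_vanishing (k : Type u) [Field k] (X : Scheme.{u})
    [X.Over (Spec (CommRingCat.of k))] [IsProper (X ↘ (Spec (CommRingCat.of k)))] [IsIntegral X]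
    (n : ℕ) (hdim : topologicalKrullDim X = n)
    (𝓘 : X.IdealSheafData) (U : X.Opens) (hU : (U : Set X) = (𝓘.support : Set X)ᶜ)
    (h : ∀ F : (U : Scheme.{u}).Modules, Coh.IsCoh F → ∀ i : ℕ, n ≤ i + 1 → Subsingleton (Coh.HH U F i))
    (D : X.IdealSheafData) (hD : BlowUp.IsEffCartierIdeal D) (hDt : D ≠ ⊤) :
    ((D.support : Set X) ∩ (𝓘.support : Set X)).Nonempty := by
  have hn : IsNoetherian X := LoccohB.AdStruct.isNoetherian_of_finiteType (X ↘ (Spec (CommRingCat.of k)))
  obtain ⟨ξ, hξ, hgen⟩ := exists_generic D hDt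
  have h1 := S1568.result X D hD ξ hξ hgen
  by_contra hne
  refine LefSmooth.not_closure_subset k X n hdim U h ξ h1.le ?_
  rw [hU]
  intro y hy hyI
  exact hne ⟨y, D.support.isClosed.closure_subset_iff.2 (Set.singleton_subset_iff.2 hξ) hy, hyI⟩

theorem isZero_of_isEmpty {X : Scheme.{u}} [IsEmpty X] (M : X.Modules) : IsZero M := by
  rw [IsZero.iff_id_eq_zero]
  apply Scheme.Modules.hom_ext
  intro U
  ext m
  exact (FormalB.KQuot.smul_eq_zero_of_local (M := M) m fun x _ => isEmptyElim x).trans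
    (FormalB.KQuot.smul_eq_zero_of_local (M := M) _ fun x _ => isEmptyElim x).symm

/-- The comparison on `X` itself. -/
theorem homToFormalBijective_of_lefCond {X : Scheme.{u}} {𝓘 : X.IdealSheafData} (h : Lef.LefCond X 𝓘)
    (B : X.Modules) (hB : PicF.IsInvertible B) : Lef.HomToFormalBijective 𝓘 B := by
  have hiso : IsIso (⊤ : X.Opens).ι := X.topIso.isIso_hom
  have h0 : inv (⊤ : X.Opens).ι ≫ (⊤ : X.Opens).ι = 𝟙 X := IsIso.inv_hom_id _
  have h1 := h ⊤ (fun _ _ => trivial) (B.restrict (⊤ : X.Opens).ι)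
    (K685.ResolAmple.isFinLocFree_of_isInvertible (K685.ResolAmple.isInvertible_of_iso
      ((Scheme.Modules.restrictFunctorIsoPullback (⊤ : X.Opens).ι).symm.app B)
      (PicThick.isInvertible_pullback (⊤ : X.Opens).ι hB)))
  have h2 := LefRes389.homToFormalBijective_restrict (inv (⊤ : X.Opens).ι) _ _ inferInstance
    (fun x _ => (ConcreteCategory.bijective_of_isIso (inv (⊤ : X.Opens).ι).base).2 x) h1
  rw [← Scheme.IdealSheafData.comap_comp, h0, Scheme.IdealSheafData.comap_id] at h2
  refine LefLeftExact.bijective_of_iso ?_ h2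
  exact (Scheme.Modules.restrictFunctorComp (inv (⊤ : X.Opens).ι) (⊤ : X.Opens).ι).symm.app B ≪≫
    (Scheme.Modules.restrictFunctorCongr h0).app B ≪≫ Scheme.Modules.restrictFunctorId.app B

/-- **The Lefschetz condition implies vanishing.** -/
theorem vanishing_of_lefCond (k : Type u) [Field k] [IsAlgClosed k] (X : Scheme.{u})
    [X.Over (Spec (CommRingCat.of k))] [IsProper (X ↘ (Spec (CommRingCat.of k)))] [IsIntegral X]
    (hreg : ∀ x : X, IsRegularLocalRing (X.presheaf.stalk x)) (L : X.Modules) (hamp : CohB1.IsAmple L)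
    (n : ℕ) (hdim : topologicalKrullDim X = n)
    (𝓘 : X.IdealSheafData) (U : X.Opens) (hU : (U : Set X) = (𝓘.support : Set X)ᶜ)
    (h : Lef.LefCond X 𝓘) (F : (U : Scheme.{u}).Modules) (hF : Coh.IsCoh F) (i : ℕ) (hi : n ≤ i + 1) :
    Subsingleton (Coh.HH U F i) := by
  have hn : IsNoetherian X := LoccohB.AdStruct.isNoetherian_of_finiteType (X ↘ (Spec (CommRingCat.of k)))
  have hnU : IsNoetherian U := LoccohB.AdStruct.isNoetherian_of_finiteType
    (U.ι ≫ (X ↘ (Spec (CommRingCat.of k))))
  have hY : (𝓘.support : Set X).Nonempty := by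
    have h1 : ConnectedSpace ((⊤ : X.Opens) : Type u) :=
      Subtype.connectedSpace (by simpa using isConnected_univ)
    have h2 := (S2946.result X 𝓘 h ⊤ (fun _ _ => trivial)).2 h1
    exact Set.nonempty_coe_sort.1 h2.toNonempty
  have hUt : U ≠ ⊤ := by
    rintro rfl
    obtain ⟨y, hy⟩ := hY
    have h1 : y ∈ ((⊤ : X.Opens) : Set X) := trivial
    rw [hU] at h1
    exact h1 hy
  rcases Set.eq_empty_or_nonempty (U : Set X) with hUe | hne
  · have hE : IsEmpty (U : Scheme.{u}) := Set.isEmpty_coe_sort.2 hUe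
    exact Fga.HShift.subsingleton_of_isZero (isZero_of_isEmpty F) i
  have hNU : Nonempty (U : Scheme.{u}) := hne.to_subtype
  have htop : ∀ G : (U : Scheme.{u}).Modules, Coh.IsCoh G → Subsingleton (Coh.HH U G n) := fun G hG =>
    K685.Licht.subsingleton_of_ne_top (X ↘ (Spec (CommRingCat.of k))) n hdim.le U hUt hne G hG
  rcases lt_trichotomy n i with hlt | heq | hgt
  · refine Localalg.LichtAsm.subsingleton_of_dim_lt ?_ F
    exact ((K685.Licht.dim_opens_le U).trans hdim.le).trans_lt (by exact_mod_cast hlt)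
  · subst heq
    exact htop F hF
  · obtain rfl : n = i + 1 := by omega
    obtain ⟨W, D⟩ := LefSmooth.exists_dz k hreg (i + 1) hdim
    exact LefGlobal.vanishing_of_homToFormalBijective U.ι D (supportSet_compl hU)
      (homToFormalBijective_of_lefCond h) hamp htop F hF

end K184.CdLef
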