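import Groth.Agent.Dual.H367.Main
import Groth.Agent.Dual.H367.Kill
import Groth.Agent.Etrest.RDer2
import Groth.Agent.S0484

/-!
# Deligne's formula for a decreasing system of submodules of a module

`j : U ⟶ X` open immersion of Noetherian schemes, `K : ℕᵒᵖ ⥤ X.Modules` a system of quasi-coherent modules such
that every map from a `K n` to a quasi-coherent module supported on `X ∖ U` dies on some `K m`. Then
`Hom_U(F|_U, L|_U) = colim Hom_X(K n, L)` (`surj`, `inj`), for `L` in `D^+_{QCoh}(X)`.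
-/

set_option autoImplicit false
universe u
open CategoryTheory CategoryTheory.Limits AlgebraicGeometry Opposite
attribute [local instance] HasDerivedCategory.standard

namespace K184.DeligneMod

open Scheme.Modules Groth.Agent.Dual.H367.Dev

set_option linter.unusedSectionVars false

variable {U X : Scheme.{u}} (j : U ⟶ X) [IsOpenImmersion j] [IsNoetherian U] [IsNoetherian X]

/-- The complexes `K n` in degree zero. -/
noncomputable abbrev cx (K : ℕᵒᵖ ⥤ X.Modules) : ℕᵒᵖ ⥤ CochainComplex X.Modules ℤ :=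
  K ⋙ HomologicalComplex.single X.Modules (ComplexShape.up ℤ) 0

variable (K : ℕᵒᵖ ⥤ X.Modules) (hK : ∀ n, Coh.IsQCoh (K.obj (op n)))
  (hkill : ∀ (M : X.Modules), onZ j M → ∀ (n : ℕ) (f : K.obj (op n) ⟶ M),
    ∃ (m : ℕ) (hnm : n ≤ m), K.map (homOfLE hnm).op ≫ f = 0)

include hK in
theorem cx_qcoh (n : ℕ) (i : ℤ) : Coh.IsQCoh (((cx K).obj (op n)).X i) := by
  by_cases hi : i = 0
  · subst hi
    exact Groth.Agent.PerfA.QCohSerre.isQCoh_of_iso
      (HomologicalComplex.singleObjXSelf (ComplexShape.up ℤ) 0 (K.obj (op n))).symm (hK n)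
  · exact Groth.Agent.PerfA.QCohSerre.isQCoh_of_isZero
      (HomologicalComplex.isZero_single_obj_X (ComplexShape.up ℤ) 0 (K.obj (op n)) i hi)

theorem cx_isZero (n : ℕ) (i : ℤ) (hi : 0 < i) : IsZero (((cx K).obj (op n)).X i) :=
  HomologicalComplex.isZero_single_obj_X (ComplexShape.up ℤ) 0 (K.obj (op n)) i hi.ne'

include hkill in
theorem cx_kill (M : X.Modules) (hM : onZ j M) (i : ℤ) (n : ℕ)
    (f : ((cx K).obj (op n)).X i ⟶ M) :
    ∃ (m : ℕ) (hnm : n ≤ m), ((cx K).map (homOfLE hnm).op).f i ≫ f = 0 := by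
  by_cases hi : i = 0
  · subst hi
    obtain ⟨m, hm, h⟩ := hkill M hM n
      ((HomologicalComplex.singleObjXSelf (ComplexShape.up ℤ) 0 (K.obj (op n))).inv ≫ f)
    refine ⟨m, hm, ?_⟩
    change ((HomologicalComplex.single X.Modules (ComplexShape.up ℤ) 0).map _).f 0 ≫ f = 0
    rw [HomologicalComplex.single_map_f_self, Category.assoc, Category.assoc, h, comp_zero]
  · exact ⟨n, le_rfl, (HomologicalComplex.isZero_single_obj_X (ComplexShape.up ℤ) 0
      (K.obj (op n)) i hi).eq_of_src _ _⟩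

variable (L : DCoh.D X) (hLc : DCoh.IsQCohD L) (c₀ : ℤ) (hL : ∀ i : ℤ, i < c₀ → IsZero (DCoh.HD L i))

/-- The degree zero functor. -/
noncomputable abbrev ind (X : Scheme.{u}) : X.Modules ⥤ DCoh.D X := DerivedCategory.singleFunctor X.Modules 0

include hL in
theorem exists_inj : ∃ (J : CochainComplex X.Modules ℤ) (_ : L ≅ DerivedCategory.Q.obj J),
    (∀ n, Injective (J.X n)) ∧ J.IsStrictlyGE c₀ ∧ J.IsKInjective := by
  have hL : L.IsGE c₀ := (DerivedCategory.isGE_iff L c₀).2 hL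
  have h0 : IsGrothendieckAbelian.{u} X.Modules := Groth.Agent.S0484.result _ X.ringCatSheaf
  have h1 : EnoughInjectives X.Modules := inferInstance
  obtain ⟨J₀, hJ₀, ⟨e₀⟩⟩ := DerivedCategory.exists_iso_Q_obj_of_isGE L c₀
  obtain ⟨J, i, hqi, hJ, hJ', hJk⟩ := Groth.Agent.Etrest.RDer2.exists_injRes J₀ c₀
  exact ⟨J, e₀ ≪≫ asIso (DerivedCategory.Q.map i), hJ, hJ', hJk⟩

include hLc in
theorem qcoh_homology {J : CochainComplex X.Modules ℤ} (e : L ≅ DerivedCategory.Q.obj J) (n : ℤ) :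
    Coh.IsQCoh (J.homology n) :=
  Groth.Agent.PerfA.QCohSerre.isQCoh_of_iso
    ((DerivedCategory.homologyFunctor _ n).mapIso e ≪≫
      (DerivedCategory.homologyFunctorFactors X.Modules n).app J) (hLc n)

include hK hkill hL hLc in
theorem surj {F : X.Modules} (ι : K.obj (op 0) ⟶ F)
    (α : (DCoh.restrictD j).obj ((ind X).obj F) ⟶ (DCoh.restrictD j).obj L) :
    ∃ (n : ℕ) (φ : (ind X).obj (K.obj (op n)) ⟶ L),
      (DCoh.restrictD j).map ((ind X).map (K.map (homOfLE (Nat.zero_le n)).op ≫ ι)) ≫ α =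
        (DCoh.restrictD j).map φ := by
  obtain ⟨J, e, hJ, hJ', hJk⟩ := exists_inj L c₀ hL
  obtain ⟨n, φ, h⟩ : ∃ (n : ℕ) (φ : (ind X).obj (K.obj (op n)) ⟶ DerivedCategory.Q.obj J),
      (DCoh.restrictD j).map ((ind X).map (K.map (homOfLE (Nat.zero_le n)).op) ≫ (ind X).map ι) ≫
        (α ≫ (DCoh.restrictD j).map e.hom) = (DCoh.restrictD j).map φ := by
    obtain ⟨n, φ, h⟩ := Groth.Agent.Dual.H367.Main.surj j (cx K) (cx_qcoh K hK) 0
      (fun n i hi => cx_isZero K n i hi) (cx_kill j K hkill) J hJ c₀ (qcoh_homology L hLc e)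
      ((HomologicalComplex.single X.Modules (ComplexShape.up ℤ) 0).map ι)
      (α ≫ (DCoh.restrictD j).map e.hom)
    refine ⟨n, φ, ?_⟩
    rw [DerivedCategory.Q.map_comp] at h
    exact h
  refine ⟨n, φ ≫ e.inv, ?_⟩
  rw [Functor.map_comp (ind X), Functor.map_comp _ φ, ← h, Category.assoc, Category.assoc,
    ← Functor.map_comp _ e.hom, e.hom_inv_id, CategoryTheory.Functor.map_id, Category.comp_id]

include hK hkill hL hLc in
theorem inj (n : ℕ) (φ : (ind X).obj (K.obj (op n)) ⟶ L) (hφ : (DCoh.restrictD j).map φ = 0) :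
    ∃ (m : ℕ) (hnm : n ≤ m), (ind X).map (K.map (homOfLE hnm).op) ≫ φ = 0 := by
  obtain ⟨J, e, hJ, hJ', hJk⟩ := exists_inj L c₀ hL
  have h0 : (DCoh.restrictD j).map (φ ≫ e.hom) =
      (DCoh.restrictD j).map (0 : (ind X).obj (K.obj (op n)) ⟶ DerivedCategory.Q.obj J) := by
    rw [Functor.map_comp, hφ, zero_comp, Functor.map_zero]
  obtain ⟨m, hnm, h⟩ : ∃ (m : ℕ) (hnm : n ≤ m), (ind X).map (K.map (homOfLE hnm).op) ≫ (φ ≫ e.hom) =
      (ind X).map (K.map (homOfLE hnm).op) ≫ 0 :=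
    Groth.Agent.Dual.H367.Main.inj j (cx K) (cx_qcoh K hK) 0
      (fun n i hi => cx_isZero K n i hi) (cx_kill j K hkill) J hJ c₀ (qcoh_homology L hLc e) hJk n
      (φ ≫ e.hom) 0 h0
  refine ⟨m, hnm, ?_⟩
  rw [comp_zero, ← Category.assoc] at h
  rw [← cancel_mono e.hom, h, zero_comp]

end K184.DeligneMod
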