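import Groth.Agent.Dix.Cast5
import Groth.Agent.Pi1C.LefFinal
import Groth.Agent.Fga.PicMon
import Groth.Agent.S0010
import Groth.Agent.Sga2.LefPow644
import Groth.Agent.Flat2H.FamDict

/-!
# The complement of an intersection of ample divisors

`subsingleton_HH`: `X` proper over a field, `D_1, …, D_m` effective Cartier divisors with `O(D_j)` ample, `U` the
complement of the intersection of their supports: `H^i(U, F) = 0` for `F` quasi-coherent, `i ≥ m`.
-/

set_option autoImplicit false
universe u
open CategoryTheory CategoryTheory.Limits AlgebraicGeometry TopologicalSpace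

namespace K184.DivCover

open Groth.Agent Groth.Agent.Fga.PicMon Groth.Agent.Grpsch.PicGrp

variable {k : Type u} [Field k] {X : Scheme.{u}} (f : X ⟶ Spec (CommRingCat.of k)) [IsProper f]

include f in
theorem isAffineOpen_compl {D : X.IdealSheafData} {L : X.Modules} (hD : BlowUp.IsEffCartierIdeal D)
    (hL : ClSub.IsInverseOf L (ClSub.idealMod D)) (hLa : CohB1.IsAmple L) :
    IsAffineOpen ⟨(D.support : Set X)ᶜ, D.support.isClosed.isOpen_compl⟩ := by
  have hker : D.subschemeι.ker = D := Scheme.IdealSheafData.ker_subschemeι D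
  have key : ∀ D' : X.IdealSheafData, D' = D →
      (∃ s : Coh.structureModule X ⟶ dual (ClSub.idealMod D'),
        (CohB1.genLocus _ s : Set X) = (Set.range D.subschemeι)ᶜ) →
      ∃ s : Coh.structureModule X ⟶ dual (ClSub.idealMod D),
        (CohB1.genLocus _ s : Set X) = (Set.range D.subschemeι)ᶜ := by
    rintro _ rfl h
    exact h
  obtain ⟨s, hs⟩ := key _ hker (Dix.Cast5.exists_section D.subschemeι (by rw [hker]; exact hD))
  have hP : PicF.IsInvertible (ClSub.idealMod D) := (Dix.IdealModCartier.isInvertible_of_isInverseOf hL).2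
  have hiso := isIso_ev hP
  obtain ⟨e⟩ : Nonempty (L ≅ dual (ClSub.idealMod D)) := by
    rw [← mc_eq_iff]
    have h1 : mc L * mc (ClSub.idealMod D) = 1 := Sga2.LefPow644.mc_inv hL
    have h2 : mc (ClSub.idealMod D) * mc (dual (ClSub.idealMod D)) = 1 :=
      mc_eq (asIso (ev (ClSub.idealMod D)))
    calc mc L = mc L * (mc (ClSub.idealMod D) * mc (dual (ClSub.idealMod D))) := by rw [h2, mul_one]
      _ = mc (dual (ClSub.idealMod D)) := by rw [← mul_assoc, h1, one_mul]
  have h3 := Pi1C.LefFinal.isAffineOpen_genLocus f (Flat2H.FamDict.isAmple_of_iso e hLa) s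
  have h4 : CohB1.genLocus _ s = ⟨(D.support : Set X)ᶜ, D.support.isClosed.isOpen_compl⟩ := by
    apply Opens.ext
    rw [hs, Scheme.IdealSheafData.range_subschemeι]
    rfl
  rw [← h4]
  exact h3

include f in
/-- Vanishing on the complement of an intersection of `m` ample divisors. -/
theorem subsingleton_HH {m : ℕ} (D : Fin m → X.IdealSheafData) (L : Fin m → X.Modules)
    (hD : ∀ j, BlowUp.IsEffCartierIdeal (D j)) (hL : ∀ j, ClSub.IsInverseOf (L j) (ClSub.idealMod (D j)))
    (hLa : ∀ j, CohB1.IsAmple (L j)) (U : X.Opens) (hU : (U : Set X) = (⋂ j, ((D j).support : Set X))ᶜ)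
    (F : (U : Scheme.{u}).Modules) (hF : Coh.IsQCoh F) (i : ℕ) (hi : m ≤ i) : Subsingleton (Coh.HH U F i) := by
  let V : Fin m → X.Opens := fun j => ⟨((D j).support : Set X)ᶜ, (D j).support.isClosed.isOpen_compl⟩
  have hV : ∀ j, IsAffineOpen (V j) := fun j => isAffineOpen_compl f (hD j) (hL j) (hLa j)
  have hVU : ∀ j, V j ≤ U := by
    intro j x hx
    change x ∈ (U : Set X)
    rw [hU]
    exact fun h => hx (Set.mem_iInter.1 h j)
  have hsep : (U : Scheme.{u}).IsSeparated := by
    have : IsSeparated (U.ι ≫ f) := inferInstance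
    exact ⟨by
      have h1 : terminal.from (U : Scheme.{u}) = (U.ι ≫ f) ≫ terminal.from _ := by
        apply terminal.hom_ext
      rw [h1]
      infer_instance⟩
  have := hF
  refine S0010.result U m (fun j => U.ι ⁻¹ᵁ V j) (fun j => ?_) ?_ (fun A B hA hB => hA.inf hB) F i hi
  · exact (hV j).preimage_of_isOpenImmersion U.ι (by rw [Scheme.Opens.opensRange_ι]; exact hVU j)
  · rw [eq_top_iff]
    intro x _
    have hx : U.ι x ∈ (U : Set X) := x.2
    rw [hU, Set.compl_iInter, Set.mem_iUnion] at hx
    obtain ⟨j, hj⟩ := hx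
    exact Opens.mem_iSup.2 ⟨j, hj⟩

end K184.DivCover
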