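import Groth.Agent.Lef.K184.PowMono
import Groth.Agent.Sga2.LefPow644
import Groth.Agent.Sga67.TensorOps
import Groth.Prelude.Def_LefX

/-!
# `H^i(X, O ⊗ F) → lim_m H^i(X, (O/𝓘^{m+1}) ⊗ F)` from the vanishing of `H^i(X, F ⊗ P^m)`
-/

set_option autoImplicit false
universe u

open CategoryTheory CategoryTheory.Limits MonoidalCategory AlgebraicGeometry Opposite TopologicalSpace

namespace K184.FlatLim

open Groth.Agent Groth.Agent.CohqB Groth.Agent.Dcoh.Stalk

variable {X : Scheme.{u}}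

/-- `- ⊗ F`. -/
noncomputable abbrev T (F : X.Modules) : X.Modules ⥤ X.Modules := DCoh.tensorBi.flip.obj F

theorem hmap_toSubscheme_quotMap (F : X.Modules) {I J : X.IdealSheafData} (h : I ≤ J) (i : ℕ)
    (x : Coh.HH X ((T F).obj (Coh.structureModule X)) i) :
    HSeqMod.hmap ((T F).map (Lef.quotMap h)) i (HSeqMod.hmap ((T F).map (ClSub.toSubscheme I)) i x) =
      HSeqMod.hmap ((T F).map (ClSub.toSubscheme J)) i x := by
  rw [← HSeqMod.hmap_comp_apply, ← Functor.map_comp, Sga2.LefPow644.toSubscheme_quotMap]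

theorem down (F : X.Modules) {I : X.IdealSheafData} {i : ℕ}
    {y : ∀ m : ℕ, Coh.HH X ((T F).obj (ClSub.quotMod (I ^ (m + 1)))) i}
    (hy : ∀ m : ℕ, HSeqMod.hmap ((T F).map (Lef.quotMap (Lef.pow_succ_le I m))) i (y (m + 1)) = y m)
    (x : Coh.HH X ((T F).obj (Coh.structureModule X)) i) (k n : ℕ)
    (h : HSeqMod.hmap ((T F).map (ClSub.toSubscheme (I ^ (n + k + 1)))) i x = y (n + k)) :
    HSeqMod.hmap ((T F).map (ClSub.toSubscheme (I ^ (n + 1)))) i x = y n := by
  induction k with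
  | zero => exact h
  | succ k ih =>
    apply ih
    have h1 : HSeqMod.hmap ((T F).map (ClSub.toSubscheme (I ^ (n + k + 2)))) i x = y (n + k + 1) := h
    rw [← hy (n + k), ← h1]
    exact (hmap_toSubscheme_quotMap F (Lef.pow_succ_le I (n + k)) i x).symm

theorem limit_of_eventually (F : X.Modules) (I : X.IdealSheafData) (n : ℕ)
    (h : ∃ m₀ : ℕ, ∀ m : ℕ, m₀ ≤ m → (∀ i : ℕ, i < n →
      Function.Bijective (HSeqMod.hmap ((T F).map (ClSub.toSubscheme (I ^ (m + 1)))) i)) ∧
      Function.Injective (HSeqMod.hmap ((T F).map (ClSub.toSubscheme (I ^ (m + 1)))) n))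
    (i : ℕ) :
    (i ≤ n → ∀ x : Coh.HH X ((T F).obj (Coh.structureModule X)) i,
      (∀ m : ℕ, HSeqMod.hmap ((T F).map (ClSub.toSubscheme (I ^ (m + 1)))) i x = 0) → x = 0) ∧
    (i < n → ∀ y : (∀ m : ℕ, Coh.HH X ((T F).obj (ClSub.quotMod (I ^ (m + 1)))) i),
      (∀ m : ℕ, HSeqMod.hmap ((T F).map (Lef.quotMap (Lef.pow_succ_le I m))) i (y (m + 1)) = y m) →
      ∃ x : Coh.HH X ((T F).obj (Coh.structureModule X)) i, ∀ m : ℕ,
        HSeqMod.hmap ((T F).map (ClSub.toSubscheme (I ^ (m + 1)))) i x = y m) := by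
  obtain ⟨m₀, h⟩ := h
  have hinj : ∀ m : ℕ, m₀ ≤ m → i ≤ n →
      Function.Injective (HSeqMod.hmap ((T F).map (ClSub.toSubscheme (I ^ (m + 1)))) i) := by
    intro m hm hi
    rcases hi.lt_or_eq with hi | rfl
    · exact ((h m hm).1 i hi).1
    · exact (h m hm).2
  refine ⟨fun hi x hx => ?_, fun hi y hy => ?_⟩
  · refine hinj m₀ le_rfl hi ?_
    rw [hx m₀]
    exact (map_zero _).symm
  · choose x hx using fun k : ℕ => ((h (m₀ + k) (Nat.le_add_right _ _)).1 i hi).2 (y (m₀ + k))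
    have hconst : ∀ k : ℕ, x k = x 0 := by
      intro k
      induction k with
      | zero => rfl
      | succ k ih =>
        rw [← ih]
        apply hinj (m₀ + k) (Nat.le_add_right _ _) hi.le
        rw [hx k]
        exact down F hy (x (k + 1)) 1 (m₀ + k) (hx (k + 1))
    refine ⟨x 0, fun m => down F hy (x 0) m₀ m ?_⟩
    rw [← hconst m]
    have h2 : ∀ (l : ℕ), l = m₀ + m →
        HSeqMod.hmap ((T F).map (ClSub.toSubscheme (I ^ (l + 1)))) i (x m) = y l := by
      rintro l rfl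
      exact hx m
    exact h2 _ (add_comm _ _)

/-- `0 → 𝓘 → O_X → O_X/𝓘 → 0`. -/
noncomputable def seq (I : X.IdealSheafData) : ShortComplex X.Modules :=
  ShortComplex.mk (ClSub.idealModι I) (ClSub.toSubscheme I) (kernel.condition _)

open Groth.Agent.Dix.IdealModSec in
theorem seq_shortExact (I : X.IdealSheafData) : (seq I).ShortExact where
  exact := ShortComplex.exact_kernel _
  mono_f := (inferInstance : Mono (ClSub.idealModι I))
  epi_g := Sga2.LefPow644.epi_toSubscheme I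

theorem seqT_shortExact (F : X.Modules) (I : X.IdealSheafData)
    (h : Mono ((DCoh.tensorBi.map (ClSub.idealModι I)).app F)) : ((seq I).map (T F)).ShortExact := by
  have hs := seq_shortExact I
  have := hs.epi_g
  exact
    { exact := hs.exact.map_of_epi_of_preservesCokernel (T F) hs.epi_g inferInstance
      mono_f := h
      epi_g := inferInstanceAs (Epi ((T F).map (seq I).g)) }

theorem bijective_of_subsingleton (F : X.Modules) (I : X.IdealSheafData)
    (hm : Mono ((DCoh.tensorBi.map (ClSub.idealModι I)).app F)) (n : ℕ)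
    (h : ∀ i ≤ n, Subsingleton (Coh.HH X ((T F).obj (ClSub.idealMod I)) i)) :
    (∀ i : ℕ, i < n → Function.Bijective (HSeqMod.hmap ((T F).map (ClSub.toSubscheme I)) i)) ∧
    Function.Injective (HSeqMod.hmap ((T F).map (ClSub.toSubscheme I)) n) := by
  have hS := seqT_shortExact F I hm
  have hinj : ∀ i ≤ n, Function.Injective (HSeqMod.hmap ((T F).map (ClSub.toSubscheme I)) i) := by
    intro i hi
    rw [injective_iff_map_eq_zero]
    intro x hx
    obtain ⟨y, hy⟩ := HSeqMod.exact₂ hS i x hx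
    have := h i hi
    have hy0 : y = 0 := Subsingleton.elim (α := Coh.HH X ((T F).obj (ClSub.idealMod I)) i) _ _
    rw [← hy, hy0]
    exact map_zero _
  refine ⟨fun i hi => ⟨hinj i hi.le, fun x => ?_⟩, hinj n le_rfl⟩
  exact HSeqMod.exact₃ hS i x (by
    have := h (i + 1) (by omega)
    exact Subsingleton.elim (α := Coh.HH X ((T F).obj (ClSub.idealMod I)) (i + 1)) _ _)

theorem subsingleton_tensor (F : X.Modules) {P Q : X.Modules} (e : P ≅ Q) (i : ℕ)
    (h : Subsingleton (Coh.HH X (CohB1.tensorMod F P) i)) :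
    Subsingleton (Coh.HH X ((T F).obj Q) i) :=
  Sga2.ThickCoh.subsingleton_HH_of_iso (N := (T F).obj Q)
    ((Sga67.TensorOps.tensorComm F P).trans ((T F).mapIso e)) i h

theorem of_vanishing (𝓘 : X.IdealSheafData) (L : X.Modules)
    (hL : ClSub.IsInverseOf L (ClSub.idealMod 𝓘)) (F : X.Modules)
    (hm : Mono ((DCoh.tensorBi.map (ClSub.idealModι 𝓘)).app F)) (n : ℕ)
    (h : ∃ m₀ : ℕ, ∀ m : ℕ, m₀ ≤ m → ∀ i ≤ n, Subsingleton (Coh.HH X
      (CohB1.tensorMod F (CohB1.tensorPow (ClSub.idealMod 𝓘) m)) i)) :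
    ∃ m₀ : ℕ, ∀ m : ℕ, m₀ ≤ m → (∀ i : ℕ, i < n →
      Function.Bijective (HSeqMod.hmap ((T F).map (ClSub.toSubscheme (𝓘 ^ (m + 1)))) i)) ∧
      Function.Injective (HSeqMod.hmap ((T F).map (ClSub.toSubscheme (𝓘 ^ (m + 1)))) n) := by
  obtain ⟨m₀, h⟩ := h
  have hD := Dix.IdealModCartier.isEffCartierIdeal_of_isInverseOf hL
  refine ⟨m₀, fun m hm' => bijective_of_subsingleton F _ (PowMono.mono_pow 𝓘 hD F hm (m + 1)) n
    fun i hi => ?_⟩
  obtain ⟨e⟩ := Sga2.ThickCoh.idealMod_pow hD (m + 1)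
  exact subsingleton_tensor F e i (h (m + 1) (by omega) i hi)

end K184.FlatLim
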