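import Groth.Agent.Lef.K184.LefGlobal
import Groth.Agent.Lefpen.H703.ClosedSmooth
import Groth.Agent.Dual.H339.OmegaRank
import Groth.Agent.Dual.H366.ExtQCoh
import Groth.Agent.Dual.H328.ClopenGlue
import Groth.Agent.ArSurf.K482.CanonTool
import Groth.Agent.CycA.IntLocal
import Groth.Agent.Surf.K461.SerreDual
import Groth.Agent.Fga.IntegralSub
import Groth.Agent.Fga.DimCut
import Groth.Agent.CohDim.K685.Licht
import Groth.Agent.Sga2.PicThick
import Groth.Agent.S0019

/-!
# The duality data of a regular proper variety; closed subvarieties of `U`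

* `exists_dz`: `LefGlobal.Dz` for a proper integral scheme over an algebraically closed field with regular local rings.
* `not_closure_subset`: if `H^i(U, G) = 0` for `G` coherent, `i ≥ n - 1`, then no closed subvariety of codimension `≤ 1`
  of `X` is contained in `U`.
-/

set_option autoImplicit false
universe u
open CategoryTheory CategoryTheory.Limits CategoryTheory.Pretriangulated AlgebraicGeometry Opposite TopologicalSpace
attribute [local instance] HasDerivedCategory.standard

namespace K184.LefSmooth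

open Groth.Agent Groth.Agent.CurvesC.RepX K184.LefGlobal

variable (k : Type u) [Field k] {X : Scheme.{u}} [X.Over (Spec (CommRingCat.of k))]

theorem smooth [IsAlgClosed k] [LocallyOfFiniteType (X ↘ Spec (CommRingCat.of k))] [IsIntegral X]
    (hreg : ∀ x : X, IsRegularLocalRing (X.presheaf.stalk x)) (n : ℕ) (hdim : topologicalKrullDim X = n) :
    SmoothOfRelativeDimension n (X ↘ Spec (CommRingCat.of k)) :=
  Lefpen.H703.ClosedSmooth.smoothOfRelativeDimension_of_closed _ n fun z hz =>
    ⟨hreg z, (Fga.DimCut.ringKrullDim_stalk_eq k X z hz).trans hdim⟩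

theorem exists_dz [IsAlgClosed k] [IsProper (X ↘ Spec (CommRingCat.of k))] [IsIntegral X]
    (hreg : ∀ x : X, IsRegularLocalRing (X.presheaf.stalk x)) (n : ℕ) (hdim : topologicalKrullDim X = n) :
    ∃ W : X.Modules, Dz k n W := by
  have hs := smooth k hreg n hdim
  have hΩ := Dual.H339.OmegaRank.isFinLocFreeOfRank_omega n (X ↘ Spec (CommRingCat.of k))
  obtain ⟨W, hW⟩ := Dual.H366.ExtQCoh.exists_isExtPow n
    (Dual.H328.ClopenGlue.isQCoh_omega (X ↘ Spec (CommRingCat.of k)))
  exact ⟨W, K482.CanonTool.isInvertible_extPow hΩ hW, K461.SerreDual.exists_form k X n W hW⟩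

theorem not_closure_subset (k : Type u) [Field k] (X : Scheme.{u}) [X.Over (Spec (CommRingCat.of k))]
    [IsProper (X ↘ Spec (CommRingCat.of k))] [IsIntegral X] (n : ℕ) (hdim : topologicalKrullDim X = n) (U : X.Opens)
    (h : ∀ G : (U : Scheme.{u}).Modules, Coh.IsCoh G → ∀ i : ℕ, n ≤ i + 1 → Subsingleton (Coh.HH U G i))
    (x : X) (hx : ringKrullDim (X.presheaf.stalk x) ≤ 1) : ¬ (closure {x} ⊆ (U : Set X)) := by
  intro hU
  have hXn : IsLocallyNoetherian X := LocallyOfFiniteType.isLocallyNoetherian (X ↘ Spec (CommRingCat.of k))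
  obtain ⟨a, t, n', h1, -, h2, h3, h4⟩ := CycA.IntLocal.exists_dims (X ↘ Spec (CommRingCat.of k)) x
  have h5 : n' = n := by
    have := h3.symm.trans hdim
    exact_mod_cast this
  have h6 : a ≤ 1 := by
    have := h1 ▸ hx
    exact_mod_cast this
  obtain ⟨Z, i, hi, hZ, -, hr⟩ := Fga.IntegralSub.exists_integral_closed x
  have hdZ : topologicalKrullDim Z = t := by
    rw [← h2, ← hr]
    exact IsHomeomorph.topologicalKrullDim_eq _ (i.isClosedEmbedding.isEmbedding.toHomeomorph.isHomeomorph)
  obtain ⟨F, hF, hFn⟩ := K685.Licht.exists_nontrivial_top (i ≫ (X ↘ Spec (CommRingCat.of k))) t hdZ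
  have hrU : Set.range i ⊆ Set.range U.ι := by
    rw [hr, Scheme.Opens.range_ι]
    exact hU
  let i' : Z ⟶ U := IsOpenImmersion.lift U.ι i hrU
  have hi' : i' ≫ U.ι = i := IsOpenImmersion.lift_fac _ _ _
  have : IsClosedImmersion (i' ≫ U.ι) := by rw [hi']; exact hi
  have hc : IsClosedImmersion i' := IsClosedImmersion.of_comp i' U.ι
  have hco : Coh.IsCoh ((Scheme.Modules.pushforward i').obj F) := S0019.result i' _ hF
  have h7 := Sga2.PicThick.subsingleton_HH_of_pushforward i' F t (h _ hco t (by omega))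
  exact not_nontrivial_iff_subsingleton.2 h7 hFn

end K184.LefSmooth
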