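import Groth.Agent.Lef.K184.FormalHH
import Groth.Agent.Lef.K184.LefSmooth
import Groth.Agent.Surf.K461.DualLF
import Groth.Agent.Sga2.PnHomAdj
import Groth.Agent.CohqB.HomSheafCoh
import Groth.Agent.PerfA.PerfLocal

/-!
# Comparison with the formal completion and the cohomological dimension of the complement

`X` proper integral regular of dimension `n` over an algebraically closed field, `U = X ∖ V(𝓘)` with
`H^i(U, G) = 0` for `G` coherent and `i > r`, `F` finite locally free: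

* `inj`: `H^i(X, F) → lim H^i(X, F/𝓘^{t+1}F)` is injective for `i + r + 1 ≤ n`;
* `surj`: it is surjective for `i + r + 2 ≤ n`.

Both for any system `S` of quotients `F → Q t` with `Q t = F/𝓘^{t+1}F`.
-/

set_option autoImplicit false
universe u
open CategoryTheory CategoryTheory.Limits CategoryTheory.Pretriangulated AlgebraicGeometry Opposite
attribute [local instance] HasDerivedCategory.standard

namespace K184.FormalCd

open Groth.Agent Groth.Agent.CurvesC Groth.Agent.CurvesC.RepX Groth.Agent.FormalB.KQuot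
open Groth.Agent.FormalB.TrKQuot K184.FormalDual K184.FormalDualAbs K184.LefSys

attribute [local instance] Groth.Agent.CurvesC.LinMod.linearModules

theorem isCoh_sheafHom {U : Scheme.{u}} [IsLocallyNoetherian U] {F W : U.Modules} (hF : Coh.IsCoh F)
    (hW : Coh.IsCoh W) : Coh.IsCoh ((DCoh.sheafHom F).obj W) :=
  PerfA.CohSerre.isCoh_of_iso ((Sga2.PnHomAdj.sheafHomIso F).app W).symm
    (CohqB.HomSheaf.isCoh_homSheaf hF hW)

/-- `Hom_{D(U)}(F|_U, W|_U[m]) = 0` for `m > r = cd U`. -/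
theorem subsingleton_of_cd (k : Type u) [Field k] {X U : Scheme.{u}} [X.Over (Spec (CommRingCat.of k))]
    [IsNoetherian U] (j : U ⟶ X) [IsOpenImmersion j] {F W : X.Modules} (hF : FlatMod.IsFinLocFree F)
    (hW : Coh.IsCoh W) (r : ℕ) (h : ∀ G : U.Modules, Coh.IsCoh G → ∀ i : ℕ, r < i → Subsingleton (Coh.HH U G i))
    (m : ℤ) (hm : (r : ℤ) < m) :
    Subsingleton ((DCoh.restrictD j).obj (DCoh.inD X F) ⟶ (DCoh.restrictD j).obj ((DCoh.inD X W)⟦m⟧)) := by
  obtain ⟨m, rfl⟩ : ∃ m' : ℕ, m = m' := ⟨m.toNat, by omega⟩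
  letI : U.Over (Spec (CommRingCat.of k)) := ⟨j ≫ (X ↘ Spec (CommRingCat.of k))⟩
  have hF' : FlatMod.IsFinLocFree (F.restrict j) := Groth.Agent.PerfA.PerfLocal.isFinLocFree_restrict j hF
  obtain ⟨E⟩ := K461.DualLF.nonempty_hom_equiv k hF' (W.restrict j) m
  have h1 : Subsingleton (Coh.HH U ((DCoh.sheafHom (F.restrict j)).obj (W.restrict j)) m) :=
    h _ (isCoh_sheafHom (PerfA.CohSerre.isCoh_of_isFinLocFree hF') (CohqB.LocalQC.isCoh_restrict j hW)) m
      (by omega)
  have h2 := (E.trans (HV.equiv k _ m)).toEquiv.subsingleton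
  exact ((res j F).homCongr (resShift j W m)).subsingleton

variable (k : Type u) [Field k] [IsAlgClosed k] (X : Scheme.{u}) [X.Over (Spec (CommRingCat.of k))]
  [IsProper (X ↘ (Spec (CommRingCat.of k)))] [IsIntegral X]
  (hreg : ∀ x : X, IsRegularLocalRing (X.presheaf.stalk x)) (n : ℕ) (hdim : topologicalKrullDim X = n)
  (𝓘 : X.IdealSheafData) (U : X.Opens) (hU : (U : Set X) = (𝓘.support : Set X)ᶜ) (r : ℕ)
  (hcd : ∀ G : (U : Scheme.{u}).Modules, Coh.IsCoh G → ∀ i : ℕ, r < i → Subsingleton (Coh.HH (U : Scheme.{u}) G i))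
  {F : X.Modules} (hF : FlatMod.IsFinLocFree F) (S : Sys F) (hK : ∀ t, IsKQuot (𝓘 ^ (t + 1)) (S.q t)) (i : ℕ)

include hreg hdim hU hcd hF hK

theorem inj (hi : i + r + 1 ≤ n) (x : HV X F i) (hx : ∀ t, HV.map k (S.q t) i x = 0) : x = 0 := by
  have hn : IsNoetherian X := LoccohB.AdStruct.isNoetherian_of_finiteType (X ↘ (Spec (CommRingCat.of k)))
  have hnU : IsNoetherian U := LoccohB.AdStruct.isNoetherian_of_finiteType (U.ι ≫ (X ↘ (Spec (CommRingCat.of k))))
  obtain ⟨W, D⟩ := LefSmooth.exists_dz k hreg n hdim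
  obtain ⟨τ, hτ⟩ := D.form
  have hW := K685.ResolAmple.isCoh_of_isInvertible D.inv
  have hI : 𝓘.supportSetᶜ = Set.range U.ι := by
    rw [Scheme.Opens.range_ι]
    exact hU.symm
  have h1 := subsingleton_of_cd k U.ι hF hW r hcd ((n : ℤ) - i) (by omega)
  exact (restrict_zero_iff_inj k U.ι hW.1 n τ hτ S hK (PerfA.CohSerre.isCoh_of_isFinLocFree hF) hI i).1
    (fun c => h1.elim _ _) x hx

theorem surj (hi : i + r + 2 ≤ n) (y : ∀ t, HV X (S.Q t) i)
    (hy : ∀ (t t' : ℕ) (h : t ≤ t'), HV.map k (S.p h) i (y t') = y t) :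
    ∃ x : HV X F i, ∀ t, HV.map k (S.q t) i x = y t := by
  have hn : IsNoetherian X := LoccohB.AdStruct.isNoetherian_of_finiteType (X ↘ (Spec (CommRingCat.of k)))
  have hnU : IsNoetherian U := LoccohB.AdStruct.isNoetherian_of_finiteType (U.ι ≫ (X ↘ (Spec (CommRingCat.of k))))
  obtain ⟨W, D⟩ := LefSmooth.exists_dz k hreg n hdim
  obtain ⟨τ, hτ⟩ := D.form
  have hW := K685.ResolAmple.isCoh_of_isInvertible D.inv
  have hI : 𝓘.supportSetᶜ = Set.range U.ι := by
    rw [Scheme.Opens.range_ι]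
    exact hU.symm
  have h1 := subsingleton_of_cd k U.ι hF hW r hcd ((n : ℤ) - i - 1) (by omega)
  exact (restrict_surjective_iff_surj k U.ι hW.1 n τ hτ S hK (PerfA.CohSerre.isCoh_of_isFinLocFree hF) hI i).1
    (fun α => ⟨0, h1.elim _ _⟩) y hy

end K184.FormalCd
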