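import Groth.Agent.Lef.K184.FormalDualAbs
import Groth.Agent.Lef.K184.DeligneMod
import Groth.Agent.CurvesC.LinMod
import Mathlib.Algebra.Homology.DerivedCategory.SingleTriangle

/-!
# Formal duality for a system of submodules of a module on a Noetherian scheme

`F` a module, `0 → K t → F → Q t → 0` a decreasing system of submodules (`Sys F`), `j : U ⟶ X` an open immersion such
that `K t|_U = F|_U` and maps from `K t` to quasi-coherent modules supported on `X ∖ U` die (`Kills`; `Kills.of_ideal`: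
`K t` cofinal with `I^n F`, `V(I) = X ∖ U`).

* `restrict_eq_zero_iff`, `restrict_surjective_iff`, `finrank_le`: see `FormalDualAbs`.
-/

set_option autoImplicit false
universe u
open CategoryTheory CategoryTheory.Limits CategoryTheory.Pretriangulated AlgebraicGeometry Opposite
attribute [local instance] HasDerivedCategory.standard

namespace K184.FormalDual

open Scheme.Modules Groth.Agent.Dual.H367.Dev K184.DeligneMod K184.FormalDualAbs

variable {U X : Scheme.{u}}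

/-- A decreasing system of submodules `K t` of `F`, with quotients `Q t`. -/
structure Sys (F : X.Modules) where
  K : ℕ → X.Modules
  Q : ℕ → X.Modules
  ι : ∀ t, K t ⟶ F
  q : ∀ t, F ⟶ Q t
  w : ∀ t, ι t ≫ q t = 0
  ex : ∀ t, (ShortComplex.mk (ι t) (q t) (w t)).ShortExact
  s : ∀ {t t' : ℕ}, t ≤ t' → (K t' ⟶ K t)
  s_ι : ∀ {t t' : ℕ} (h : t ≤ t'), s h ≫ ι t = ι t'
  p : ∀ {t t' : ℕ}, t ≤ t' → (Q t' ⟶ Q t)
  q_p : ∀ {t t' : ℕ} (h : t ≤ t'), q t' ≫ p h = q t

namespace Sys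

variable {F : X.Modules} (S : Sys F)

instance mono_ι (t : ℕ) : Mono (S.ι t) := (S.ex t).mono_f

instance epi_q (t : ℕ) : Epi (S.q t) := (S.ex t).epi_g

theorem s_refl (t : ℕ) : S.s (le_refl t) = 𝟙 _ := by
  rw [← cancel_mono (S.ι t), S.s_ι, Category.id_comp]

theorem s_trans {t t' t'' : ℕ} (h : t ≤ t') (h' : t' ≤ t'') : S.s h' ≫ S.s h = S.s (h.trans h') := by
  rw [← cancel_mono (S.ι t), Category.assoc, S.s_ι, S.s_ι, S.s_ι]

/-- A system from epimorphisms `F ⟶ Q t`. -/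
noncomputable def ofEpi {F : X.Modules} (Q : ℕ → X.Modules) (q : ∀ t, F ⟶ Q t) (hq : ∀ t, Epi (q t))
    (p : ∀ {t t' : ℕ}, t ≤ t' → (Q t' ⟶ Q t)) (q_p : ∀ {t t' : ℕ} (h : t ≤ t'), q t' ≫ p h = q t) :
    Sys F where
  K t := kernel (q t)
  Q := Q
  ι t := kernel.ι (q t)
  q := q
  w t := kernel.condition (q t)
  ex t := { exact := ShortComplex.exact_kernel (q t)
            mono_f := inferInstanceAs (Mono (kernel.ι (q t)))
            epi_g := hq t }
  s {t t'} h := kernel.lift (q t) (kernel.ι (q t')) (by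
    rw [← q_p h, ← Category.assoc, kernel.condition, zero_comp])
  s_ι h := kernel.lift_ι _ _ _
  p := p
  q_p := q_p

/-- A system from monomorphisms `K t ⟶ F`. -/
noncomputable def ofMono {F : X.Modules} (K : ℕ → X.Modules) (ι : ∀ t, K t ⟶ F) (hι : ∀ t, Mono (ι t))
    (s : ∀ {t t' : ℕ}, t ≤ t' → (K t' ⟶ K t)) (s_ι : ∀ {t t' : ℕ} (h : t ≤ t'), s h ≫ ι t = ι t') :
    Sys F where
  K := K
  Q t := cokernel (ι t)
  ι := ι
  q t := cokernel.π (ι t)
  w t := cokernel.condition (ι t)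
  ex t := { exact := ShortComplex.exact_cokernel (ι t)
            mono_f := hι t
            epi_g := inferInstanceAs (Epi (cokernel.π (ι t))) }
  s := s
  s_ι := s_ι
  p {t t'} h := cokernel.desc (ι t') (cokernel.π (ι t)) (by
    rw [← s_ι h, Category.assoc, cokernel.condition, comp_zero])
  q_p h := cokernel.π_desc _ _ _

/-- The `K t` as a functor. -/
noncomputable def kfun : ℕᵒᵖ ⥤ X.Modules where
  obj n := S.K n.unop
  map f := S.s (leOfHom f.unop)
  map_id n := S.s_refl n.unop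
  map_comp f g := (S.s_trans (leOfHom g.unop) (leOfHom f.unop)).symm

/-- The tower of triangles in the derived category. -/
noncomputable def tower : Tower (DCoh.D X) where
  F := (ind X).obj F
  K t := (ind X).obj (S.K t)
  Q t := (ind X).obj (S.Q t)
  ι t := (ind X).map (S.ι t)
  q t := (ind X).map (S.q t)
  δ t := (S.ex t).singleδ
  dist t := (S.ex t).singleTriangle_distinguished
  s h := (ind X).map (S.s h)
  p h := (ind X).map (S.p h)
  s_ι h := by rw [← Functor.map_comp, S.s_ι]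
  q_p h := by rw [← Functor.map_comp, S.q_p]
  p_δ {t t'} h := by
    let f : ShortComplex.mk (S.ι t') (S.q t') (S.w t') ⟶ ShortComplex.mk (S.ι t) (S.q t) (S.w t) :=
      { τ₁ := S.s h
        τ₂ := 𝟙 F
        τ₃ := S.p h
        comm₁₂ := by
          change S.s h ≫ S.ι t = S.ι t' ≫ 𝟙 F
          rw [S.s_ι, Category.comp_id]
        comm₂₃ := by
          change 𝟙 F ≫ S.q t = S.q t' ≫ S.p h
          rw [S.q_p, Category.id_comp] }
    exact (ShortComplex.ShortExact.singleTriangle.map (S.ex t') (S.ex t) f).comm₃.symm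
  p_refl t := by
    have h : S.p (le_refl t) = 𝟙 _ := by
      rw [← cancel_epi (S.q t), S.q_p, Category.comp_id]
    rw [h, CategoryTheory.Functor.map_id]
  p_trans {t t' t''} h h' := by
    have h1 : S.p h' ≫ S.p h = S.p (h.trans h') := by
      rw [← cancel_epi (S.q t''), ← Category.assoc, S.q_p, S.q_p, S.q_p]
    rw [← h1, Functor.map_comp]

end Sys

variable (j : U ⟶ X) [IsOpenImmersion j]

/-- `K t|_U = F|_U`, and maps from the `K t` to quasi-coherent modules supported on `X ∖ U` die. -/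
structure Kills {F : X.Modules} (S : Sys F) : Prop where
  qcoh : ∀ t, Coh.IsQCoh (S.K t)
  iso : ∀ t, IsIso ((restrictFunctor j).map (S.ι t))
  kill : ∀ (M : X.Modules), onZ j M → ∀ (t : ℕ) (f : S.K t ⟶ M), ∃ (t' : ℕ) (h : t ≤ t'), S.s h ≫ f = 0

variable {j}

theorem Kills.isIso {F : X.Modules} {S : Sys F} (h : Kills j S) (t : ℕ) :
    IsIso ((DCoh.restrictD j).map (S.tower.ι t)) := by
  have := h.iso t
  exact (NatIso.isIso_map_iff ((restrictFunctor j).mapDerivedCategorySingleFunctor 0) (S.ι t)).2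
    (inferInstanceAs (IsIso ((DerivedCategory.singleFunctor U.Modules 0).map
      ((restrictFunctor j).map (S.ι t)))))

variable [IsNoetherian U] [IsNoetherian X]

theorem Kills.surj {F : X.Modules} {S : Sys F} (h : Kills j S) {L : DCoh.D X} (hLc : DCoh.IsQCohD L)
    (c₀ : ℤ) (hL : ∀ i : ℤ, i < c₀ → IsZero (DCoh.HD L i))
    (α : (DCoh.restrictD j).obj S.tower.F ⟶ (DCoh.restrictD j).obj L) :
    ∃ (t : ℕ) (φ : S.tower.K t ⟶ L), (DCoh.restrictD j).map (S.tower.ι t) ≫ α =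
      (DCoh.restrictD j).map φ := by
  obtain ⟨n, φ, hφ⟩ := DeligneMod.surj j S.kfun h.qcoh h.kill L hLc c₀ hL (S.ι 0) α
  refine ⟨n, φ, ?_⟩
  have h1 : S.kfun.map (homOfLE (Nat.zero_le n)).op ≫ S.ι 0 = S.ι n := S.s_ι (Nat.zero_le n)
  rw [h1] at hφ
  exact hφ

theorem Kills.inj {F : X.Modules} {S : Sys F} (h : Kills j S) {L : DCoh.D X} (hLc : DCoh.IsQCohD L)
    (c₀ : ℤ) (hL : ∀ i : ℤ, i < c₀ → IsZero (DCoh.HD L i)) (t : ℕ) (φ : S.tower.K t ⟶ L)
    (hφ : (DCoh.restrictD j).map φ = 0) : ∃ (t' : ℕ) (h : t ≤ t'), S.tower.s h ≫ φ = 0 :=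
  DeligneMod.inj j S.kfun h.qcoh h.kill L hLc c₀ hL t φ hφ

variable (k : Type u) [Field k] [X.Over (Spec (CommRingCat.of k))]

attribute [local instance] Groth.Agent.CurvesC.LinMod.linearModules

section

variable {k} {F : X.Modules} {S : Sys F}

theorem restrict_eq_zero_iff (h : Kills j S) {P L : DCoh.D X} (hLc : DCoh.IsQCohD L)
    (c₀ : ℤ) (hL : ∀ i : ℤ, i < c₀ → IsZero (DCoh.HD L i)) (τ : (P ⟶ L) →ₗ[k] k)
    (hF : Function.Bijective (pair k τ S.tower.F))
    (hQ : ∀ t, Function.Bijective (pair k τ (S.tower.Q t))) [Module.Finite k (P ⟶ S.tower.F)] :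
    (∀ c : S.tower.F ⟶ L, (DCoh.restrictD j).map c = 0) ↔
      ∀ x : P ⟶ S.tower.F, (∀ t, x ≫ S.tower.q t = 0) → x = 0 :=
  FormalDualAbs.restrict_eq_zero_iff k S.tower (DCoh.restrictD j) τ hF hQ (h.inj hLc c₀ hL) h.isIso

theorem restrict_surjective_iff (h : Kills j S) {P L : DCoh.D X} (hLc : DCoh.IsQCohD L)
    (c₀ : ℤ) (hL : ∀ i : ℤ, i < c₀ → IsZero (DCoh.HD L i)) (τ : (P ⟶ L⟦(1 : ℤ)⟧) →ₗ[k] k)
    (hF : Function.Bijective (pair k τ S.tower.F))
    (hQ : ∀ t, Function.Bijective (pair k τ (S.tower.Q t))) [Module.Finite k (P ⟶ S.tower.F)]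
    [∀ t, Module.Finite k (P ⟶ S.tower.Q t)] :
    (∀ α : (DCoh.restrictD j).obj S.tower.F ⟶ (DCoh.restrictD j).obj L,
      ∃ ψ : S.tower.F ⟶ L, (DCoh.restrictD j).map ψ = α) ↔
      ∀ y : ∀ t, P ⟶ S.tower.Q t, (∀ (t t' : ℕ) (h : t ≤ t'), y t' ≫ S.tower.p h = y t) →
        ∃ x : P ⟶ S.tower.F, ∀ t, x ≫ S.tower.q t = y t :=
  FormalDualAbs.restrict_surjective_iff k S.tower (DCoh.restrictD j) τ hF hQ (h.surj hLc c₀ hL)
    (h.inj hLc c₀ hL) h.isIso

theorem finrank_le (h : Kills j S) [U.Over (Spec (CommRingCat.of k))] [(DCoh.restrictD j).Linear k]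
    {P L : DCoh.D X} (hLc : DCoh.IsQCohD L)
    (c₀ : ℤ) (hL : ∀ i : ℤ, i < c₀ → IsZero (DCoh.HD L i)) (τ : (P ⟶ L) →ₗ[k] k)
    (hK : ∀ t, Function.Bijective (pair k τ (S.tower.K t))) [∀ t, Module.Finite k (P ⟶ S.tower.K t)]
    (B : ℕ) (hB : ∀ t : ℕ, ∃ (t' : ℕ) (h : t ≤ t'),
      Module.finrank k (LinearMap.range (Linear.rightComp k P (S.tower.s h))) ≤ B) :
    Module.rank k ((DCoh.restrictD j).obj S.tower.F ⟶ (DCoh.restrictD j).obj L) ≤ B :=
  FormalDualAbs.finrank_le k S.tower (DCoh.restrictD j) τ hK (h.surj hLc c₀ hL) h.isIso B hB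

end

end K184.FormalDual
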