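import Mathlib.CategoryTheory.Triangulated.Pretriangulated
import Mathlib.CategoryTheory.Linear.LinearFunctor
import Mathlib.LinearAlgebra.Dual.Lemmas
import Mathlib.LinearAlgebra.Dimension.Finite
import Mathlib.Algebra.Colimit.Module
import Mathlib.RingTheory.Artinian.Module

/-!
# Formal duality, abstract form

`C` a `k`-linear pretriangulated category (`k` a field), a tower of triangles `K_t → F → Q_t → K_t⟦1⟧`
with transition maps, a linear form `τ : Hom(P, Ω) → k` inducing perfect pairings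
`Hom(P, Z) × Hom(Z, Ω) → k`, and a functor `R : C ⥤ C'` such that `Hom(R F, R Ω)` is the colimit of the
`Hom(K_t, Ω)` (Deligne).

* `restrict_eq_zero_iff`: all `c : F ⟶ Ω` die under `R` iff `Hom(P, F) → lim Hom(P, Q_t)` is injective;
* `restrict_surjective_iff`: `Hom(F, Ω₀) → Hom(R F, R Ω₀)` is onto iff `Hom(P, F) → lim Hom(P, Q_t)` is onto, `Ω = Ω₀⟦1⟧`;
* `finrank_le`: `dim Hom(R F, R Ω) ≤ B` if the maps `Hom(P, K_t') → Hom(P, K_t)` have rank `≤ B` for `t' ≫ t`.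
-/

set_option autoImplicit false
universe w v v' u u'

open CategoryTheory CategoryTheory.Limits CategoryTheory.Pretriangulated

namespace K184.FormalDualAbs

variable (k : Type w) [Field k] {C : Type u} [Category.{v} C] [Preadditive C] [Linear k C]

/-- `φ ↦ (s ↦ τ (s ≫ φ))`. -/
def pair {P Ω : C} (τ : (P ⟶ Ω) →ₗ[k] k) (Z : C) : (Z ⟶ Ω) →ₗ[k] Module.Dual k (P ⟶ Z) where
  toFun φ := τ ∘ₗ Linear.rightComp k P φ
  map_add' φ ψ := by
    ext s
    change τ (s ≫ (φ + ψ)) = τ (s ≫ φ) + τ (s ≫ ψ)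
    rw [Preadditive.comp_add, map_add]
  map_smul' a φ := by
    ext s
    change τ (s ≫ (a • φ)) = a • τ (s ≫ φ)
    rw [Linear.comp_smul, map_smul]

theorem pair_apply {P Ω : C} (τ : (P ⟶ Ω) →ₗ[k] k) {Z : C} (φ : Z ⟶ Ω) (s : P ⟶ Z) :
    pair k τ Z φ s = τ (s ≫ φ) := rfl

variable {k} in
theorem eq_zero_of_pair {P Ω : C} {τ : (P ⟶ Ω) →ₗ[k] k} {Z : C} (h : Function.Bijective (pair k τ Z))
    (x : P ⟶ Z) (hx : ∀ c : Z ⟶ Ω, τ (x ≫ c) = 0) : x = 0 := by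
  rw [← Module.forall_dual_apply_eq_zero_iff k x]
  intro l
  obtain ⟨c, rfl⟩ := h.2 l
  exact hx c

variable {k} in
theorem eq_zero_of_pair' {P Ω : C} {τ : (P ⟶ Ω) →ₗ[k] k} {Z : C} (h : Function.Bijective (pair k τ Z))
    (c : Z ⟶ Ω) (hc : ∀ x : P ⟶ Z, τ (x ≫ c) = 0) : c = 0 := by
  apply h.1
  rw [map_zero]
  ext x
  exact hc x

variable [HasZeroObject C] [HasShift C ℤ] [∀ n : ℤ, (shiftFunctor C n).Additive] [Pretriangulated C]

variable (C) in
/-- A tower of triangles `K_t → F → Q_t → K_t⟦1⟧`. -/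
structure Tower where
  F : C
  K : ℕ → C
  Q : ℕ → C
  ι : ∀ t, K t ⟶ F
  q : ∀ t, F ⟶ Q t
  δ : ∀ t, Q t ⟶ (K t)⟦(1 : ℤ)⟧
  dist : ∀ t, Triangle.mk (ι t) (q t) (δ t) ∈ distTriang C
  s : ∀ {t t' : ℕ}, t ≤ t' → (K t' ⟶ K t)
  p : ∀ {t t' : ℕ}, t ≤ t' → (Q t' ⟶ Q t)
  s_ι : ∀ {t t' : ℕ} (h : t ≤ t'), s h ≫ ι t = ι t'
  q_p : ∀ {t t' : ℕ} (h : t ≤ t'), q t' ≫ p h = q t
  p_δ : ∀ {t t' : ℕ} (h : t ≤ t'), p h ≫ δ t = δ t' ≫ (s h)⟦(1 : ℤ)⟧'
  p_refl : ∀ t, p (le_refl t) = 𝟙 _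
  p_trans : ∀ {t t' t'' : ℕ} (h : t ≤ t') (h' : t' ≤ t''), p h' ≫ p h = p (h.trans h')

variable (T : Tower C)

theorem Tower.exists_of_ι {t : ℕ} {Z : C} (c : T.F ⟶ Z) (h : T.ι t ≫ c = 0) :
    ∃ c' : T.Q t ⟶ Z, c = T.q t ≫ c' :=
  Triangle.yoneda_exact₂ _ (T.dist t) c h

theorem Tower.exists_of_q {t : ℕ} {Z : C} (c : T.Q t ⟶ Z) (h : T.q t ≫ c = 0) :
    ∃ c' : (T.K t)⟦(1 : ℤ)⟧ ⟶ Z, c = T.δ t ≫ c' :=
  Triangle.yoneda_exact₃ _ (T.dist t) c h

theorem Tower.q_δ (t : ℕ) : T.q t ≫ T.δ t = 0 := comp_distTriang_mor_zero₂₃ _ (T.dist t)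

theorem Tower.ι_q (t : ℕ) : T.ι t ≫ T.q t = 0 := comp_distTriang_mor_zero₁₂ _ (T.dist t)

theorem Tower.δ_ι (t : ℕ) : T.δ t ≫ (T.ι t)⟦(1 : ℤ)⟧' = 0 := comp_distTriang_mor_zero₃₁ _ (T.dist t)

theorem Tower.exists_of_δ {t : ℕ} {Z : C} (f : T.K t ⟶ Z) (h : T.δ t ≫ f⟦(1 : ℤ)⟧' = 0) :
    ∃ g : T.F ⟶ Z, T.ι t ≫ g = f := by
  obtain ⟨g, hg⟩ : ∃ g : T.F⟦(1 : ℤ)⟧ ⟶ Z⟦(1 : ℤ)⟧,
      f⟦(1 : ℤ)⟧' = (-(T.ι t)⟦(1 : ℤ)⟧') ≫ g :=
    Triangle.yoneda_exact₃ _ (rot_of_distTriang _ (T.dist t)) (f⟦(1 : ℤ)⟧') h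
  obtain ⟨g', rfl⟩ := (shiftFunctor C (1 : ℤ)).map_surjective g
  refine ⟨-g', (shiftFunctor C (1 : ℤ)).map_injective ?_⟩
  rw [hg, Functor.map_comp, Functor.map_neg, Preadditive.comp_neg, Preadditive.neg_comp]

/-- Finite-dimensional: the kernels of `Hom(P, F) → Hom(P, Q_t)` are eventually constant. -/
theorem Tower.exists_stable (P : C) [Module.Finite k (P ⟶ T.F)] :
    ∃ t₀ : ℕ, ∀ t, t₀ ≤ t → ∀ x : P ⟶ T.F, x ≫ T.q t₀ = 0 → x ≫ T.q t = 0 := by
  let N : ℕ →o (Submodule k (P ⟶ T.F))ᵒᵈ :=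
    ⟨fun t => OrderDual.toDual (LinearMap.ker (Linear.rightComp k P (T.q t))), fun t t' h => by
      intro x hx
      change x ≫ T.q t = 0
      have hx' : x ≫ T.q t' = 0 := hx
      rw [← T.q_p h, ← Category.assoc, hx', zero_comp]⟩
  obtain ⟨t₀, ht₀⟩ := IsArtinian.monotone_stabilizes N
  refine ⟨t₀, fun t ht x hx => ?_⟩
  have h1 : x ∈ LinearMap.ker (Linear.rightComp k P (T.q t₀)) := hx
  have h2 : LinearMap.ker (Linear.rightComp k P (T.q t₀)) =
      LinearMap.ker (Linear.rightComp k P (T.q t)) := ht₀ t ht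
  rw [h2] at h1
  exact h1

variable {C' : Type u'} [Category.{v'} C'] [Preadditive C'] (R : C ⥤ C') [R.Additive]

theorem restrict_eq_zero_iff {P Ω : C} (τ : (P ⟶ Ω) →ₗ[k] k) (hF : Function.Bijective (pair k τ T.F))
    (hQ : ∀ t, Function.Bijective (pair k τ (T.Q t))) [Module.Finite k (P ⟶ T.F)]
    (hR : ∀ (t : ℕ) (φ : T.K t ⟶ Ω), R.map φ = 0 → ∃ (t' : ℕ) (h : t ≤ t'), T.s h ≫ φ = 0)
    (hι : ∀ t, IsIso (R.map (T.ι t))) :
    (∀ c : T.F ⟶ Ω, R.map c = 0) ↔ ∀ x : P ⟶ T.F, (∀ t, x ≫ T.q t = 0) → x = 0 := by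
  constructor
  · intro h x hx
    refine eq_zero_of_pair hF x fun c => ?_
    obtain ⟨t', ht', h1⟩ := hR 0 (T.ι 0 ≫ c) (by rw [Functor.map_comp, h c, comp_zero])
    rw [← Category.assoc, T.s_ι] at h1
    obtain ⟨c', rfl⟩ := T.exists_of_ι c h1
    rw [← Category.assoc, hx, zero_comp, map_zero]
  · intro h c
    obtain ⟨t₀, ht₀⟩ := T.exists_stable k P
    have hinj : Function.Injective (Linear.rightComp k P (T.q t₀)) := by
      rw [injective_iff_map_eq_zero]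
      intro x hx
      apply h x
      intro t
      rcases le_total t₀ t with ht | ht
      · exact ht₀ t ht x hx
      · rw [← T.q_p ht, ← Category.assoc]
        have hx' : x ≫ T.q t₀ = 0 := hx
        rw [hx', zero_comp]
    obtain ⟨g, hg⟩ := LinearMap.exists_leftInverse_of_injective _ (LinearMap.ker_eq_bot.2 hinj)
    obtain ⟨c', hc'⟩ := (hQ t₀).2 ((pair k τ T.F c) ∘ₗ g)
    have h1 : T.q t₀ ≫ c' = c := by
      apply hF.1
      ext x
      change τ (x ≫ T.q t₀ ≫ c') = τ (x ≫ c)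
      rw [← Category.assoc]
      have h2 := congrArg (fun l => l (x ≫ T.q t₀)) hc'
      refine h2.trans ?_
      change τ ((g (x ≫ T.q t₀)) ≫ c) = _
      have h3 : g (x ≫ T.q t₀) = x := LinearMap.congr_fun hg x
      rw [h3]
    have h2 : R.map (T.ι t₀) ≫ R.map c = 0 := by
      rw [← Functor.map_comp, ← h1, ← Category.assoc, T.ι_q, zero_comp, Functor.map_zero]
    have := hι t₀
    rwa [← cancel_epi (R.map (T.ι t₀)), comp_zero]

/-- Linear algebra: an element of a stage of the system `Hom(Q_t, Ω)` that never dies is detected by a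
compatible family in `Hom(P, Q_t)`. -/
theorem exists_family {P Ω : C} (τ : (P ⟶ Ω) →ₗ[k] k)
    (hQ : ∀ t, Function.Bijective (pair k τ (T.Q t))) [∀ t, Module.Finite k (P ⟶ T.Q t)]
    (t : ℕ) (c : T.Q t ⟶ Ω) (hc : ∀ (t' : ℕ) (h : t ≤ t'), T.p h ≫ c ≠ 0) :
    ∃ y : ∀ t, P ⟶ T.Q t, (∀ (t t' : ℕ) (h : t ≤ t'), y t' ≫ T.p h = y t) ∧ τ (y t ≫ c) ≠ 0 := by
  let G : ℕ → Type v := fun t => T.Q t ⟶ Ω
  let f : ∀ i j, i ≤ j → (G i →ₗ[k] G j) := fun i j h => Linear.leftComp k Ω (T.p h)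
  have hf : DirectedSystem G fun i j h => f i j h :=
    { map_self := fun i x => by
        change T.p _ ≫ x = x
        rw [T.p_refl, Category.id_comp]
      map_map := fun k j i hij hjk x => by
        change T.p _ ≫ T.p _ ≫ x = T.p _ ≫ x
        rw [← Category.assoc, T.p_trans] }
  have h0 : Module.DirectLimit.of k ℕ G f t c ≠ 0 := by
    intro h
    obtain ⟨t', ht', h1⟩ := Module.DirectLimit.of.zero_exact h
    exact hc t' ht' h1
  obtain ⟨l, hl⟩ : ∃ l : Module.Dual k (Module.DirectLimit G f), l (Module.DirectLimit.of k ℕ G f t c) ≠ 0 := by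
    by_contra h
    push Not at h
    exact h0 ((Module.forall_dual_apply_eq_zero_iff k _).1 h)
  have key : ∀ t, ∃ y : P ⟶ T.Q t, ∀ c : T.Q t ⟶ Ω,
      τ (y ≫ c) = l (Module.DirectLimit.of k ℕ G f t c) := by
    intro t
    let e : G t ≃ₗ[k] Module.Dual k (P ⟶ T.Q t) := LinearEquiv.ofBijective _ (hQ t)
    obtain ⟨y, hy⟩ := (Module.evalEquiv k (P ⟶ T.Q t)).surjective
      (l ∘ₗ (Module.DirectLimit.of k ℕ G f t) ∘ₗ e.symm.toLinearMap)
    refine ⟨y, fun c => ?_⟩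
    have h1 := LinearMap.congr_fun hy (e c)
    have h2 : (Module.evalEquiv k (P ⟶ T.Q t)) y (e c) = τ (y ≫ c) := rfl
    rw [← h2, h1]
    change l (Module.DirectLimit.of k ℕ G f t (e.symm (e c))) = _
    rw [LinearEquiv.symm_apply_apply]
  choose y hy using key
  refine ⟨y, fun t t' h => ?_, ?_⟩
  · rw [← sub_eq_zero]
    refine eq_zero_of_pair (hQ t) _ fun c => ?_
    rw [Preadditive.sub_comp, map_sub, Category.assoc, hy, hy, sub_eq_zero]
    congr 1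
    exact Module.DirectLimit.of_f (f := f) (hij := h) (x := c)
  · rw [hy]
    exact hl

theorem restrict_surjective_iff {P Ω : C} (τ : (P ⟶ Ω⟦(1 : ℤ)⟧) →ₗ[k] k)
    (hF : Function.Bijective (pair k τ T.F)) (hQ : ∀ t, Function.Bijective (pair k τ (T.Q t)))
    [Module.Finite k (P ⟶ T.F)] [∀ t, Module.Finite k (P ⟶ T.Q t)]
    (hR1 : ∀ α : R.obj T.F ⟶ R.obj Ω, ∃ (t : ℕ) (φ : T.K t ⟶ Ω), R.map (T.ι t) ≫ α = R.map φ)
    (hR2 : ∀ (t : ℕ) (φ : T.K t ⟶ Ω), R.map φ = 0 → ∃ (t' : ℕ) (h : t ≤ t'), T.s h ≫ φ = 0)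
    (hι : ∀ t, IsIso (R.map (T.ι t))) :
    (∀ α : R.obj T.F ⟶ R.obj Ω, ∃ ψ : T.F ⟶ Ω, R.map ψ = α) ↔
      ∀ y : ∀ t, P ⟶ T.Q t, (∀ (t t' : ℕ) (h : t ≤ t'), y t' ≫ T.p h = y t) →
        ∃ x : P ⟶ T.F, ∀ t, x ≫ T.q t = y t := by
  constructor
  · intro hsurj y hy
    have hA : ∀ t, ∃ x : P ⟶ T.F, x ≫ T.q t = y t := by
      intro t
      have hmem : y t ∈ LinearMap.range (Linear.rightComp k P (T.q t)) := by
        by_contra hn
        obtain ⟨l, hl1, hl2⟩ := Submodule.exists_dual_map_eq_bot_of_notMem hn inferInstance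
        obtain ⟨c, rfl⟩ := (hQ t).2 l
        have h1 : T.q t ≫ c = 0 := by
          refine eq_zero_of_pair' hF _ fun x => ?_
          have h2 : (pair k τ (T.Q t) c) (x ≫ T.q t) ∈
              Submodule.map (pair k τ (T.Q t) c) (LinearMap.range (Linear.rightComp k P (T.q t))) :=
            Submodule.mem_map_of_mem ⟨x, rfl⟩
          rw [hl2, Submodule.mem_bot] at h2
          rw [← Category.assoc]
          exact h2
        obtain ⟨c', rfl⟩ := T.exists_of_q c h1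
        obtain ⟨φ, rfl⟩ := (shiftFunctor C (1 : ℤ)).map_surjective c'
        have := hι t
        obtain ⟨ψ, hψ⟩ := hsurj (inv (R.map (T.ι t)) ≫ R.map φ)
        obtain ⟨t', ht', h3⟩ := hR2 t (T.ι t ≫ ψ - φ) (by
          rw [Functor.map_sub, Functor.map_comp, hψ, IsIso.hom_inv_id_assoc, sub_self])
        rw [Preadditive.comp_sub, sub_eq_zero, ← Category.assoc, T.s_ι] at h3
        apply hl1
        rw [pair_apply, ← hy t t' ht', Category.assoc, ← Category.assoc (T.p ht'), T.p_δ, Category.assoc,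
          ← Functor.map_comp, ← h3, Functor.map_comp, ← Category.assoc (T.δ t'), T.δ_ι, zero_comp,
          comp_zero, map_zero]
      exact hmem
    choose x hx using hA
    obtain ⟨t₀, ht₀⟩ := T.exists_stable k P
    refine ⟨x t₀, fun t => ?_⟩
    rcases le_total t₀ t with ht | ht
    · have h1 : (x t - x t₀) ≫ T.q t₀ = 0 := by
        rw [Preadditive.sub_comp, hx t₀, ← T.q_p ht, ← Category.assoc, hx t, hy t₀ t ht, sub_self]
      have h2 := ht₀ t ht _ h1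
      rw [Preadditive.sub_comp, sub_eq_zero, hx t] at h2
      exact h2.symm
    · rw [← T.q_p ht, ← Category.assoc, hx t₀, hy t t₀ ht]
  · intro hlim α
    obtain ⟨t, φ, hφ⟩ := hR1 α
    obtain ⟨t', ht', h1⟩ : ∃ (t' : ℕ) (h : t ≤ t'), T.p h ≫ T.δ t ≫ φ⟦(1 : ℤ)⟧' = 0 := by
      by_contra h
      push Not at h
      obtain ⟨y, hy, hyc⟩ := exists_family k T τ hQ t _ h
      obtain ⟨x, hx⟩ := hlim y hy
      apply hyc
      rw [← hx t, Category.assoc, ← Category.assoc (T.q t), T.q_δ, zero_comp, comp_zero, map_zero]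
    rw [← Category.assoc, T.p_δ, Category.assoc, ← Functor.map_comp] at h1
    obtain ⟨ψ, hψ⟩ := T.exists_of_δ _ h1
    refine ⟨ψ, ?_⟩
    have := hι t'
    rw [← cancel_epi (R.map (T.ι t')), ← Functor.map_comp, hψ, Functor.map_comp, ← hφ,
      ← Category.assoc, ← Functor.map_comp, T.s_ι]

theorem finrank_le [Linear k C'] [R.Linear k] {P Ω : C} (τ : (P ⟶ Ω) →ₗ[k] k)
    (hK : ∀ t, Function.Bijective (pair k τ (T.K t))) [∀ t, Module.Finite k (P ⟶ T.K t)]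
    (hR1 : ∀ α : R.obj T.F ⟶ R.obj Ω, ∃ (t : ℕ) (φ : T.K t ⟶ Ω), R.map (T.ι t) ≫ α = R.map φ)
    (hι : ∀ t, IsIso (R.map (T.ι t)))
    (B : ℕ) (hB : ∀ t : ℕ, ∃ (t' : ℕ) (h : t ≤ t'),
      Module.finrank k (LinearMap.range (Linear.rightComp k P (T.s h))) ≤ B) :
    Module.rank k (R.obj T.F ⟶ R.obj Ω) ≤ B := by
  refine rank_le fun S hS => ?_
  choose t φ hφ using hR1
  let N := S.sup t
  have hN : ∀ α : S, t α.1 ≤ N := fun α => Finset.le_sup (f := t) α.2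
  let ψ : S → (T.K N ⟶ Ω) := fun α => T.s (hN α) ≫ φ α.1
  have hψ : ∀ α : S, R.map (T.ι N) ≫ α.1 = R.map (ψ α) := fun α => by
    change _ = R.map (T.s (hN α) ≫ φ α.1)
    rw [Functor.map_comp, ← hφ, ← Category.assoc, ← Functor.map_comp, T.s_ι]
  obtain ⟨t', ht', hr⟩ := hB N
  let V := LinearMap.range (Linear.rightComp k P (T.s ht'))
  let f : (T.K N ⟶ Ω) →ₗ[k] Module.Dual k V :=
    (Module.Dual.transpose (R := k) V.subtype) ∘ₗ (pair k τ (T.K N))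
  have hf : ∀ ξ : T.K N ⟶ Ω, f ξ = 0 → R.map ξ = 0 := by
    intro ξ hξ
    have h1 : T.s ht' ≫ ξ = 0 := by
      refine eq_zero_of_pair' (hK t') _ fun x => ?_
      have h2 := LinearMap.congr_fun hξ ⟨x ≫ T.s ht', ⟨x, rfl⟩⟩
      rw [← Category.assoc]
      exact h2
    have := hι t'
    have := hι N
    have h3 : IsIso (R.map (T.s ht')) := by
      have h4 : R.map (T.s ht') ≫ R.map (T.ι N) = R.map (T.ι t') := by
        rw [← Functor.map_comp, T.s_ι]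
      exact IsIso.of_isIso_fac_right h4
    rw [← cancel_epi (R.map (T.s ht')), ← Functor.map_comp, h1, Functor.map_zero, comp_zero]
  have hli : LinearIndependent k fun α : S => f (ψ α) := by
    rw [Fintype.linearIndependent_iff] at hS ⊢
    intro g hg
    apply hS g
    have h5 : f (∑ α : S, g α • ψ α) = 0 := by
      rw [map_sum, ← hg]
      exact Finset.sum_congr rfl fun α _ => map_smul _ _ _
    have h6 := hf _ h5
    have := hι N
    rw [← cancel_epi (R.map (T.ι N)), comp_zero, ← h6, Functor.map_sum, Preadditive.comp_sum]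
    exact Finset.sum_congr rfl fun α _ => by rw [Linear.comp_smul, Functor.map_smul, hψ]
  have h7 := hli.fintype_card_le_finrank
  rw [Subspace.dual_finrank_eq, Fintype.card_coe] at h7
  exact h7.trans hr

end K184.FormalDualAbs
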