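import Groth.Agent.Lef.K184.FormalDual
import Groth.Agent.Fixpt.H907.Supp
import Groth.Agent.FormalA.ExProj

/-!
# Systems of submodules cofinal with `I^n F` satisfy the hypotheses of Deligne's formula
-/

set_option autoImplicit false
universe u
open CategoryTheory CategoryTheory.Limits CategoryTheory.Pretriangulated AlgebraicGeometry Opposite

namespace K184.FormalDual

open Scheme.Modules Groth.Agent.Dual.H367.Dev K184.DeligneMod
open Groth.Agent.Dual.H367 Groth.Agent.FormalB.TrKQuot Groth.Agent.FormalB.KQuot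

variable {U X : Scheme.{u}} (j : U ⟶ X) [IsOpenImmersion j] (I : X.IdealSheafData)

theorem isZero_restrict_kq (hI : I.supportSetᶜ = Set.range j) (F : X.Modules) (n : ℕ) :
    IsZero ((kq (I ^ n) F).restrict j) := by
  refine Supp.isZero_restrict j fun W hW m => ?_
  refine Groth.Agent.FormalA.ExPush.section_eq_zero_of_support _ W m fun y hy hy' => ?_
  have h1 := Groth.Agent.Fixpt.H907.Supp.support_of_killed I n (killed_pushforward (I ^ n) _) hy'
  have h2 : y ∈ I.supportSetᶜ := by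
    rw [hI]
    exact hW hy
  exact h2 h1

theorem isIso_restrict_of_isZero {F Q : X.Modules} (q : F ⟶ Q) (h : IsZero (Q.restrict j)) :
    IsIso ((restrictFunctor j).map (kernel.ι q)) := by
  have h1 : ((ShortComplex.mk (kernel.ι q) q (kernel.condition q)).map (restrictFunctor j)).Exact :=
    (ShortComplex.exact_kernel q).map (restrictFunctor j)
  have h2 : Epi ((restrictFunctor j).map (kernel.ι q)) := by
    have h3 := (ShortComplex.exact_iff_epi _ (h.eq_of_tgt _ _)).1 h1
    exact h3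
  exact isIso_of_mono_of_epi _

variable [IsNoetherian X]

/-- A system cofinal with the `I^n F`. -/
theorem Kills.of_ideal {F : X.Modules} (hF : Coh.IsCoh F) (hI : I.supportSetᶜ = Set.range j) (S : Sys F)
    (hqc : ∀ t, Coh.IsQCoh (S.K t))
    (h1 : ∀ n : ℕ, ∃ (t : ℕ) (σ : S.K t ⟶ (Dual3.idealMul (I ^ n)).obj F),
      σ ≫ Dual3.idealMulι (I ^ n) F = S.ι t)
    (h2 : ∀ t : ℕ, ∃ (n : ℕ) (ρ : (Dual3.idealMul (I ^ n)).obj F ⟶ S.K t),
      ρ ≫ S.ι t = Dual3.idealMulι (I ^ n) F) : Kills j S where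
  qcoh := hqc
  iso t := by
    obtain ⟨n, ρ, hρ⟩ := h2 t
    have h3 : IsIso ((restrictFunctor j).map (Dual3.idealMulι (I ^ n) F)) :=
      isIso_restrict_of_isZero j _ (isZero_restrict_kq j I hI F n)
    have h4 : Epi ((restrictFunctor j).map (S.ι t)) := by
      rw [← hρ, Functor.map_comp] at h3
      have h5 : Epi ((restrictFunctor j).map ρ ≫ (restrictFunctor j).map (S.ι t)) := inferInstance
      exact epi_of_epi ((restrictFunctor j).map ρ) _
    exact isIso_of_mono_of_epi _
  kill M hM t f := by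
    obtain ⟨n, ρ, hρ⟩ := h2 t
    obtain ⟨m, hnm, h3⟩ := Kill.kill I j hI hF hM.1 hM.2 n (ρ ≫ f)
    obtain ⟨t', σ, hσ⟩ := h1 m
    refine ⟨max t t', le_max_left _ _, ?_⟩
    have h4 : S.s (le_max_left t t') = S.s (le_max_right t t') ≫ σ ≫ IdMul.tr (Kill.pow_le I hnm) F ≫ ρ := by
      rw [← cancel_mono (S.ι t), Category.assoc, Category.assoc, Category.assoc, hρ, IdMul.tr_ι, hσ,
        S.s_ι, S.s_ι]
    rw [h4, Category.assoc, Category.assoc, Category.assoc, h3, comp_zero, comp_zero]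

theorem Sys.exists_idealP (I : X.IdealSheafData) (F : X.Modules) {t t' : ℕ} (h : t ≤ t') :
    ∃ p : kq (I ^ t') F ⟶ kq (I ^ t) F, kπ (I ^ t') F ≫ p = kπ (I ^ t) F := by
  have := epi_kπ (I ^ t') F
  exact ⟨(Abelian.epiIsCokernelOfKernel (Fork.ofι (kernel.ι (kπ (I ^ t') F)) (kernel.condition _))
    (kernelIsKernel _)).desc (CokernelCofork.ofπ (kπ (I ^ t) F)
      (IdMul.idealMulι_comp_kπ_of_le (Kill.pow_le I h) F)),
    (Abelian.epiIsCokernelOfKernel (Fork.ofι (kernel.ι (kπ (I ^ t') F))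
      (kernel.condition _)) (kernelIsKernel _)).fac _ WalkingParallelPair.one⟩

/-- The system `I^t F`. -/
noncomputable def Sys.ideal (I : X.IdealSheafData) (F : X.Modules) : Sys F :=
  Sys.ofEpi (fun t => kq (I ^ t) F) (fun t => kπ (I ^ t) F) (fun t => epi_kπ (I ^ t) F)
    (fun h => (Sys.exists_idealP I F h).choose) (fun h => (Sys.exists_idealP I F h).choose_spec)

theorem Kills.ideal {F : X.Modules} (hF : Coh.IsCoh F) (hI : I.supportSetᶜ = Set.range j) :
    Kills j (Sys.ideal I F) :=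
  Kills.of_ideal j I hF hI _ (fun t => (IdMul.isCoh_idealMul (I ^ t) hF).1)
    (fun n => ⟨n, 𝟙 _, Category.id_comp _⟩) (fun n => ⟨n, 𝟙 _, Category.id_comp _⟩)

end K184.FormalDual
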