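import Groth.Agent.Lef.K184.FormalDualIdeal
import Groth.Agent.Surf.K461.DualAbs
import Groth.Agent.CurvesC.DualEuler
import Groth.Agent.PerfA.QCohD
import Groth.Agent.S0002

/-!
# Inputs for the formal duality on a proper scheme over a field

* `finite_hom`, `finite_hom₀`: `Hom_D(O_X, M[i])` is finite-dimensional for `M` coherent;
* `exists_shift`: shifting a perfect form;
* `ge_shift`: vanishing of the cohomology of `W[n]` below `-n`.
-/

set_option autoImplicit false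
universe u
open CategoryTheory CategoryTheory.Limits CategoryTheory.Pretriangulated AlgebraicGeometry Opposite
attribute [local instance] HasDerivedCategory.standard

namespace K184.FormalDual

open Groth.Agent Groth.Agent.CurvesC Groth.Agent.CurvesC.RepX Groth.Agent.CurvesC.DualLin
open K184.DeligneMod K184.FormalDualAbs

variable (k : Type u) [Field k] {X : Scheme.{u}} [X.Over (Spec (CommRingCat.of k))]

attribute [local instance] LinMod.linearModules

theorem finite_hom [IsProper (X ↘ Spec (CommRingCat.of k))] {M : X.Modules} (hM : Coh.IsCoh M) (i : ℕ) :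
    Module.Finite k (P X ⟶ (DCoh.inD X M)⟦(i : ℤ)⟧) := by
  have h1 : Module.Finite k (Coh.HH X M i) := S0002.result k X M hM i
  have h2 : Module.Finite k (HV X M i) := h1
  exact Module.Finite.equiv (homHVₗ k X M i).symm

theorem finite_hom₀ [IsProper (X ↘ Spec (CommRingCat.of k))] {M : X.Modules} (hM : Coh.IsCoh M) :
    Module.Finite k (P X ⟶ DCoh.inD X M) := by
  have h1 : Module.Finite k (Coh.HH X M 0) := S0002.result k X M hM 0
  have h2 : Module.Finite k (HV X M 0) := h1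
  exact Module.Finite.equiv (DualEuler.homHVₗ₀ k X M).symm

theorem pair_eq_pairing {Ω : DCoh.D X} (τ : (P X ⟶ Ω) →ₗ[k] k) (K : DCoh.D X) :
    pair k τ K = pairing k X τ K := rfl

/-- Shifting a perfect form. -/
theorem exists_shift {P₀ Ω : DCoh.D X} (τ : (P₀ ⟶ Ω) →ₗ[k] k)
    (hτ : ∀ K : DCoh.D X, DCoh.IsQCohD K → Function.Bijective (pair k τ K)) (i : ℤ) :
    ∃ τ' : (P₀⟦i⟧ ⟶ Ω⟦i⟧) →ₗ[k] k,
      ∀ K : DCoh.D X, DCoh.IsQCohD K → Function.Bijective (pair k τ' K) := by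
  let E := K461.DualAbs.shiftE k P₀ Ω i
  refine ⟨τ ∘ₗ E.symm.toLinearMap, fun K hK => ?_⟩
  -- `K = K'⟦i⟧`
  let K' := K⟦-i⟧
  let e : K'⟦i⟧ ≅ K := (shiftFunctorCompIsoId (DCoh.D X) (-i) i (by omega)).app K
  have hK' : DCoh.IsQCohD K' := PerfA.QCohD.isQCohD_shift hK (-i)
  let A : (K ⟶ Ω⟦i⟧) ≃ₗ[k] (K' ⟶ Ω) :=
    (Linear.homCongr k e.symm (Iso.refl (Ω⟦i⟧))).trans (K461.DualAbs.shiftE k K' Ω i).symm
  let B : (P₀⟦i⟧ ⟶ K) ≃ₗ[k] (P₀ ⟶ K') :=
    (Linear.homCongr k (Iso.refl (P₀⟦i⟧)) e.symm).trans (K461.DualAbs.shiftE k P₀ K' i).symm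
  have key : (pair k (τ ∘ₗ E.symm.toLinearMap) K) = (B.dualMap.toLinearMap ∘ₗ (pair k τ K')) ∘ₗ A.toLinearMap := by
    ext φ s
    obtain ⟨φ, rfl⟩ := A.symm.surjective φ
    obtain ⟨s, rfl⟩ := B.symm.surjective s
    change τ (E.symm (B.symm s ≫ A.symm φ)) = τ (B (B.symm s) ≫ A (A.symm φ))
    rw [LinearEquiv.apply_symm_apply, LinearEquiv.apply_symm_apply]
    congr 1
    rw [LinearEquiv.symm_apply_eq]
    change (𝟙 _ ≫ (shiftFunctor (DCoh.D X) i).map s ≫ e.hom) ≫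
      (e.inv ≫ (shiftFunctor (DCoh.D X) i).map φ ≫ 𝟙 _) = (shiftFunctor (DCoh.D X) i).map (s ≫ φ)
    simp
  rw [key]
  exact (B.dualMap.bijective.comp (hτ K' hK')).comp A.bijective

theorem isZero_HD_shift (W : X.Modules) (n i : ℤ) (hi : i < -n) :
    IsZero (DCoh.HD ((DCoh.inD X W)⟦n⟧) i) := by
  have h1 : (DCoh.inD X W).IsGE 0 := inferInstance
  have h2 : ((DCoh.inD X W)⟦n⟧).IsGE (-n) := DerivedCategory.TStructure.t.isGE_shift _ 0 n (-n)
  exact (DerivedCategory.isGE_iff _ (-n)).1 h2 i hi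

end K184.FormalDual
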