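import Groth.Agent.Lef.K184.LefSys

/-!
# `Lef.HomToFormalBijective` by formal duality

`X` proper over a field, `τ` a perfect form for `W[n]`, `A ⊗ B ≅ O`, `j : U ⟶ X` the complement of `V(𝓘)`:
`Lef.HomToFormalBijective 𝓘 B` if and only if all morphisms `A → W[n]` vanish on `U` and all morphisms
`A|_U → W[n-1]|_U` extend to `X`.
-/

set_option autoImplicit false
universe u
open CategoryTheory CategoryTheory.Limits CategoryTheory.Pretriangulated AlgebraicGeometry Opposite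
attribute [local instance] HasDerivedCategory.standard

namespace K184.LefSys

open Groth.Agent Groth.Agent.CurvesC.RepX Groth.Agent.FormalB.KQuot Groth.Agent.FormalB.TrKQuot
  K184.FormalDual K184.DeligneMod K184.FormalDualAbs

attribute [local instance] Groth.Agent.CurvesC.LinMod.linearModules

variable (k : Type u) [Field k] {X U : Scheme.{u}} [X.Over (Spec (CommRingCat.of k))]
  [IsProper (X ↘ Spec (CommRingCat.of k))] [IsNoetherian X] [IsNoetherian U]
  (j : U ⟶ X) [IsOpenImmersion j]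

theorem isCoh_Q {𝓘 : X.IdealSheafData} {A B : X.Modules} (e : CohB1.tensorMod A B ≅ Coh.structureModule X)
    (hF : Coh.IsCoh (F A)) (t : ℕ) : Coh.IsCoh ((sys 𝓘 A).Q t) :=
  IsKQuot.isCoh (isKQuot_sys 𝓘 e t) hF

theorem homToFormalBijective_iff_restrict {W : X.Modules} (hW : Coh.IsQCoh W) (n : ℤ)
    (τ : (P X ⟶ (DCoh.inD X W)⟦n⟧) →ₗ[k] k)
    (hτ : ∀ K : DCoh.D X, DCoh.IsQCohD K → Function.Bijective (pair k τ K))
    {A B : X.Modules} (e : CohB1.tensorMod A B ≅ Coh.structureModule X) (hF : Coh.IsCoh (F A))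
    {𝓘 : X.IdealSheafData} (hI : 𝓘.supportSetᶜ = Set.range j) :
    Lef.HomToFormalBijective 𝓘 B ↔
      (∀ c : DCoh.inD X (F A) ⟶ (DCoh.inD X W)⟦n⟧, (DCoh.restrictD j).map c = 0) ∧
      ∀ α : (DCoh.restrictD j).obj (DCoh.inD X (F A)) ⟶ (DCoh.restrictD j).obj ((DCoh.inD X W)⟦n - 1⟧),
        ∃ ψ : DCoh.inD X (F A) ⟶ (DCoh.inD X W)⟦n - 1⟧, (DCoh.restrictD j).map ψ = α := by
  have hk := kills j e hF hI
  have hWD : DCoh.IsQCohD (DCoh.inD X W) := PerfA.QCohD.isQCohD_inD W hW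
  have hFD : DCoh.IsQCohD (sys 𝓘 A).tower.F := PerfA.QCohD.isQCohD_inD _ hF.1
  have hQD : ∀ t, DCoh.IsQCohD ((sys 𝓘 A).tower.Q t) := fun t => PerfA.QCohD.isQCohD_inD _ (isCoh_Q e hF t).1
  have hfF : Module.Finite k (P X ⟶ (sys 𝓘 A).tower.F) := finite_hom₀ k hF
  have hfQ : ∀ t, Module.Finite k (P X ⟶ (sys 𝓘 A).tower.Q t) := fun t => finite_hom₀ k (isCoh_Q e hF t)
  rw [homToFormalBijective_iff e 𝓘]
  refine and_congr ?_ ?_
  · exact (restrict_eq_zero_iff hk (PerfA.QCohD.isQCohD_shift hWD n) (-n) (isZero_HD_shift W n) τ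
      (hτ _ hFD) (fun t => hτ _ (hQD t))).symm
  · obtain ⟨τ', hτ'⟩ := K461.DualAbs.exists_form_of_iso k
      ((shiftFunctorAdd' (DCoh.D X) (n - 1) 1 n (by omega)).app (DCoh.inD X W)) τ hτ
    exact (restrict_surjective_iff hk (PerfA.QCohD.isQCohD_shift hWD (n - 1)) (-(n - 1))
      (isZero_HD_shift W (n - 1)) τ' (hτ' _ hFD) (fun t => hτ' _ (hQD t))).symm

end K184.LefSys
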