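import Groth.Agent.Lef.K184.LefOpen
import Groth.Agent.Sga67.CohLoc
import Groth.Agent.Grpsch.PicGrp
import Groth.Agent.CohDim.K685.ResolAmple
import Groth.Agent.S0051

/-!
# Vanishing on `U = X ∖ V(𝓘)` and the comparison `Hom(B, O) → lim Hom(B, O/𝓘^{n+1})`

`X` proper over a field with a perfect form for `W[n]`, `W` invertible.

* `homToFormalBijective_of_vanishing`: if `H^i(U, G) = 0` for `G` coherent and `i ≥ n - 1`, the comparison is
  bijective for all invertible `B`.
* `vanishing_of_homToFormalBijective`: conversely, if the comparison is bijective for all invertible `B`, `X` carries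
  an ample module and `H^n(U, G) = 0` for `G` coherent, then `H^{n-1}(U, G) = 0` for `G` coherent.
-/

set_option autoImplicit false
universe u
open CategoryTheory CategoryTheory.Limits CategoryTheory.Pretriangulated AlgebraicGeometry Opposite
attribute [local instance] HasDerivedCategory.standard

namespace K184.LefGlobal

open Groth.Agent Groth.Agent.CurvesC.RepX K184.LefSys K184.FormalDualAbs
open Groth.Agent.Fga.PicMon

attribute [local instance] Groth.Agent.CurvesC.LinMod.linearModules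

variable (k : Type u) [Field k] {X U : Scheme.{u}} [X.Over (Spec (CommRingCat.of k))]

/-- `W` is invertible and `W[n]` represents the dual of global sections. -/
structure Dz (n : ℕ) (W : X.Modules) : Prop where
  inv : PicF.IsInvertible W
  form : ∃ τ : (P X ⟶ (DCoh.inD X W)⟦(n : ℤ)⟧) →ₗ[k] k,
    ∀ K : DCoh.D X, DCoh.IsQCohD K → Function.Bijective (pair k τ K)

variable {k} [IsProper (X ↘ Spec (CommRingCat.of k))] [IsNoetherian X] [IsNoetherian U]
  (j : U ⟶ X) [IsOpenImmersion j] {n : ℕ} {W : X.Modules}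

theorem isCoh_F {A : X.Modules} (hA : PicF.IsInvertible A) : Coh.IsCoh (F A) :=
  PerfA.CohSerre.isCoh_of_iso (Ega2.Tens.lunit A).symm (K685.ResolAmple.isCoh_of_isInvertible hA)

theorem homToFormalBijective_of_vanishing (D : Dz k n W) {𝓘 : X.IdealSheafData}
    (hI : 𝓘.supportSetᶜ = Set.range j)
    (h : ∀ G : U.Modules, Coh.IsCoh G → ∀ i : ℕ, n ≤ i + 1 → Subsingleton (Coh.HH U G i))
    {A B : X.Modules} (hA : PicF.IsInvertible A) (hB : PicF.IsInvertible B)
    (e : CohB1.tensorMod A B ≅ Coh.structureModule X) : Lef.HomToFormalBijective 𝓘 B := by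
  obtain ⟨τ, hτ⟩ := D.form
  have hW := K685.ResolAmple.isCoh_of_isInvertible D.inv
  have hG : Coh.IsCoh ((CohB1.tensorMod W B).restrict j) :=
    CohqB.LocalQC.isCoh_restrict j (Ega2.GlobGenCrit.isCoh_tensor hW hB)
  rw [homToFormalBijective_iff_restrict k j hW.1 n τ hτ e (isCoh_F hA) hI]
  constructor
  · intro c
    have h1 := (subsingleton_restrict_iff j e W n).2 (h _ hG n (Nat.le_succ n))
    exact h1.elim _ _
  · have h1 : Subsingleton ((DCoh.restrictD j).obj (DCoh.inD X (F A)) ⟶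
        (DCoh.restrictD j).obj ((DCoh.inD X W)⟦(n : ℤ) - 1⟧)) := by
      rcases Nat.eq_zero_or_pos n with rfl | hn
      · exact subsingleton_restrict_of_neg j _ _ _ (by simp)
      · obtain ⟨m, rfl⟩ := Nat.exists_eq_add_of_lt hn
        have h2 := (subsingleton_restrict_iff j e W m).2 (h _ hG m (by omega))
        have h3 : ((0 + m + 1 : ℕ) : ℤ) - 1 = (m : ℤ) := by push_cast; ring
        rw [h3]
        exact h2
    exact fun α => ⟨0, h1.elim _ _⟩

theorem subsingleton_of_homToFormalBijective {m : ℕ} (D : Dz k (m + 1) W) {𝓘 : X.IdealSheafData}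
    (hI : 𝓘.supportSetᶜ = Set.range j) {A B : X.Modules} (hA : PicF.IsInvertible A)
    (e : CohB1.tensorMod A B ≅ Coh.structureModule X) (h : Lef.HomToFormalBijective 𝓘 B)
    (h1 : Subsingleton (Coh.HH X A 1)) : Subsingleton (Coh.HH U ((CohB1.tensorMod W B).restrict j) m) := by
  obtain ⟨τ, hτ⟩ := D.form
  have hW := K685.ResolAmple.isCoh_of_isInvertible D.inv
  rw [homToFormalBijective_iff_restrict k j hW.1 (m + 1 : ℕ) τ hτ e (isCoh_F hA) hI] at h
  have h2 := h.2
  have h3 : ((m + 1 : ℕ) : ℤ) - 1 = (m : ℤ) := by push_cast; ring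
  rw [h3] at h2
  rw [← subsingleton_restrict_iff j e W m]
  obtain ⟨E⟩ := K461.DualAbs.dual_equiv_hom k (F := F A) m 1 (m + 1) rfl τ
    (hτ _ (PerfA.QCohD.isQCohD_shift (PerfA.QCohD.isQCohD_inD _ (isCoh_F hA).1) ((1 : ℕ) : ℤ)))
  have h4 : Subsingleton (Coh.HH X (F A) 1) := Sga2.ThickCoh.subsingleton_HH_of_iso (Ega2.Tens.lunit A).symm 1 h1
  have h5 : Subsingleton (CurvesC.HV X (F A) 1) := h4
  have h6 : Subsingleton (Module.Dual k (CurvesC.HV X (F A) 1)) :=
    ⟨fun a b => LinearMap.ext fun x => by rw [Subsingleton.elim x 0, map_zero, map_zero]⟩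
  have h7 : Subsingleton (DCoh.inD X (F A) ⟶ (DCoh.inD X W)⟦(m : ℤ)⟧) := E.toEquiv.subsingleton
  refine subsingleton_of_forall_eq ((DCoh.restrictD j).map 0) fun α => ?_
  obtain ⟨ψ, rfl⟩ := h2 α
  rw [h7.elim ψ 0]

theorem exists_subsingleton_negPow {m : ℕ} (D : Dz k (m + 1) W) {𝓘 : X.IdealSheafData}
    (hI : 𝓘.supportSetᶜ = Set.range j) (h : ∀ B : X.Modules, PicF.IsInvertible B → Lef.HomToFormalBijective 𝓘 B)
    {L M : X.Modules} (hL : CohB1.IsAmple L) (hM : ClSub.IsInverseOf M L) :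
    ∃ m₀ : ℕ, ∀ N : ℕ, m₀ ≤ N → Subsingleton (Coh.HH U ((CohB1.tensorPow M N).restrict j) m) := by
  have hW := K685.ResolAmple.isCoh_of_isInvertible D.inv
  obtain ⟨n₀, hn₀⟩ := (S0051.result k X (X ↘ Spec (CommRingCat.of k)) L hL.1).1 hL W hW
  obtain ⟨W', hW', ⟨eW⟩⟩ := Grpsch.PicGrp.exists_inverse D.inv
  have hMi := K685.ResolAmple.isInvertible_of_isInverseOf hL.1 hM
  obtain ⟨eM⟩ := hM
  refine ⟨n₀, fun N hN => ?_⟩
  have hA : PicF.IsInvertible (CohB1.tensorMod W (CohB1.tensorPow L N)) :=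
    Fdesc.LocGen.isInvertible_tensorMod D.inv (Fdesc.LocGen.isInvertible_tensorPow hL.1 N)
  have hB : PicF.IsInvertible (CohB1.tensorMod W' (CohB1.tensorPow M N)) :=
    Fdesc.LocGen.isInvertible_tensorMod hW' (Fdesc.LocGen.isInvertible_tensorPow hMi N)
  have h1 : mc W * mc W' = 1 := mc_eq eW
  have h2 : mc M * mc L = 1 := mc_eq eM
  obtain ⟨e⟩ : Nonempty (CohB1.tensorMod (CohB1.tensorMod W (CohB1.tensorPow L N))
      (CohB1.tensorMod W' (CohB1.tensorPow M N)) ≅ Coh.structureModule X) := by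
    rw [← mc_eq_iff, mc_tensor, mc_tensor, mc_tensor, mc_tensorPow, mc_tensorPow, mul_mul_mul_comm, h1,
      ← mul_pow, mul_comm (mc L), h2, one_pow, one_mul, mc_one]
  obtain ⟨e'⟩ : Nonempty (CohB1.tensorMod W (CohB1.tensorMod W' (CohB1.tensorPow M N)) ≅
      CohB1.tensorPow M N) := by
    rw [← mc_eq_iff, mc_tensor, mc_tensor, ← mul_assoc, h1, one_mul]
  exact Sga2.ThickCoh.subsingleton_HH_of_iso ((Scheme.Modules.restrictFunctor j).mapIso e') m
    (subsingleton_of_homToFormalBijective j D hI hA e (h _ hB) (hn₀ N hN 1 Nat.one_pos))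

theorem vanishing_of_homToFormalBijective {m : ℕ} (D : Dz k (m + 1) W) {𝓘 : X.IdealSheafData}
    (hI : 𝓘.supportSetᶜ = Set.range j) (h : ∀ B : X.Modules, PicF.IsInvertible B → Lef.HomToFormalBijective 𝓘 B)
    {L : X.Modules} (hL : CohB1.IsAmple L)
    (hv : ∀ G : U.Modules, Coh.IsCoh G → Subsingleton (Coh.HH U G (m + 1)))
    (G : U.Modules) (hG : Coh.IsCoh G) : Subsingleton (Coh.HH U G m) := by
  obtain ⟨M, hMi, ⟨eM⟩⟩ := Grpsch.PicGrp.exists_inverse hL.1
  have hM : ClSub.IsInverseOf M L := ⟨Ega2.Tens.swap M L ≪≫ eM⟩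
  obtain ⟨m₀, hm₀⟩ := exists_subsingleton_negPow j D hI h hL hM
  obtain ⟨G', hG', ⟨e⟩⟩ := Sga67.CohLoc.exists_extension j G hG
  obtain ⟨E, π, ⟨N, hN, κ, hκ, ⟨eE⟩⟩, hπ⟩ := K685.ResolAmple.exists_negSum hL hM m₀ hG'
  have hE : Coh.IsCoh E := K685.ResolAmple.NegSum.isCoh hMi ⟨N, hN, κ, hκ, ⟨eE⟩⟩
  let π' : E.restrict j ⟶ G := (Scheme.Modules.restrictFunctor j).map π ≫ e.hom
  have hπ' : Epi π' := epi_comp _ _
  have hEj : Coh.IsCoh (E.restrict j) := CohqB.LocalQC.isCoh_restrict j hE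
  have hK : Coh.IsCoh (kernel π') := PerfA.CohSerre.isCoh_kernel π' hEj hG.1
  have hS : (ShortComplex.mk (kernel.ι π') π' (kernel.condition π')).ShortExact :=
    { exact := ShortComplex.exact_kernel π'
      mono_f := inferInstance
      epi_g := hπ' }
  have h1 : Subsingleton (Coh.HH U (E.restrict j) m) := by
    obtain ⟨N', ⟨f⟩⟩ := Finite.exists_equiv_fin κ
    let e1 : (∐ fun _ : κ => CohB1.tensorPow M N) ≅ (∐ fun _ : Fin N' => CohB1.tensorPow M N) :=
      Sigma.whiskerEquiv (g := fun _ : Fin N' => CohB1.tensorPow M N) f (fun _ => Iso.refl _)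
    let e2 : (∐ fun _ : Fin N' => CohB1.tensorPow M N).restrict j ≅
        (∐ fun _ : Fin N' => (CohB1.tensorPow M N).restrict j) :=
      (PreservesCoproduct.iso (Scheme.Modules.restrictFunctor j) _)
    exact Sga2.ThickCoh.subsingleton_HH_of_iso (((Scheme.Modules.restrictFunctor j).mapIso (eE ≪≫ e1)) ≪≫ e2).symm m
      (Fga.HShift.subsingleton_coproduct _ m fun _ => hm₀ N hN)
  have h2 := hv _ hK
  refine subsingleton_of_forall_eq 0 fun x => ?_
  obtain ⟨y, rfl⟩ := Groth.Agent.CohqB.HSeqMod.exact₃ hS m x (h2.elim _ _)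
  rw [h1.elim y 0, map_zero]

end K184.LefGlobal
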