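import Groth.Agent.Lef.K184.LefDual
import Groth.Agent.Ega3B.TensRestrict

/-!
# `Hom_{D(U)}(A|_U, W|_U[m])` as a cohomology group on the open subscheme `U`

For `A ⊗ B ≅ O`: `Hom_{D(U)}(A|_U, W|_U[m]) = H^m(U, (W ⊗ B)|_U)`; consequences for `Lef.HomToFormalBijective`.
-/

set_option autoImplicit false
universe u
open CategoryTheory CategoryTheory.Limits CategoryTheory.Pretriangulated AlgebraicGeometry Opposite
attribute [local instance] HasDerivedCategory.standard

namespace K184.LefSys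

open Groth.Agent Groth.Agent.CurvesC.RepX K184.FormalDual K184.DeligneMod K184.FormalDualAbs

section

variable {U : Scheme.{u}} (T : U.Modules ⥤ U.Modules) [T.Additive] [PreservesFiniteLimits T]
  [PreservesFiniteColimits T] [T.IsEquivalence]

/-- `Hom_D(F, W[m]) = H^m(T W)` for an exact equivalence `T` with `T F = O`. -/
theorem subsingleton_hom_iff {F W : U.Modules} (e : T.obj F ≅ Coh.structureModule U) (m : ℕ) :
    Subsingleton (DCoh.inD U F ⟶ (DCoh.inD U W)⟦(m : ℤ)⟧) ↔ Subsingleton (Coh.HH U (T.obj W) m) := by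
  have := Fdesc.SubDer.isEquivalence_mapDerivedCategory T
  let E1 : (DCoh.inD U F ⟶ (DCoh.inD U W)⟦(m : ℤ)⟧) ≃
      (T.mapDerivedCategory.obj (DCoh.inD U F) ⟶ T.mapDerivedCategory.obj ((DCoh.inD U W)⟦(m : ℤ)⟧)) :=
    (Functor.FullyFaithful.ofFullyFaithful T.mapDerivedCategory).homEquiv
  let i1 : T.mapDerivedCategory.obj (DCoh.inD U F) ≅ P U :=
    (T.mapDerivedCategorySingleFunctor 0).app F ≪≫ (DerivedCategory.singleFunctor U.Modules 0).mapIso e
  let i2 : T.mapDerivedCategory.obj ((DCoh.inD U W)⟦(m : ℤ)⟧) ≅ (DCoh.inD U (T.obj W))⟦(m : ℤ)⟧ :=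
    (T.mapDerivedCategory.commShiftIso (m : ℤ)).app _ ≪≫
      (shiftFunctor (DCoh.D U) (m : ℤ)).mapIso ((T.mapDerivedCategorySingleFunctor 0).app W)
  exact (E1.trans ((i1.homCongr i2).trans (CurvesC.HomHV.homHV (T.obj W) m).toEquiv)).subsingleton_congr

end

theorem subsingleton_hom_of_neg {U : Scheme.{u}} (F W : U.Modules) (m : ℤ) (hm : m < 0) :
    Subsingleton (DCoh.inD U F ⟶ (DCoh.inD U W)⟦m⟧) := by
  have h1 : (DCoh.inD U W).IsGE 0 := inferInstance
  have h2 : ((DCoh.inD U W)⟦m⟧).IsGE (-m) := DerivedCategory.TStructure.t.isGE_shift _ 0 m (-m)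
  have h3 : (DCoh.inD U F).IsLE 0 := inferInstance
  exact subsingleton_of_forall_eq 0 fun f => DerivedCategory.TStructure.t.zero_of_isLE_of_isGE f 0 (-m) (by lia)
    h3 h2

variable {X U : Scheme.{u}} (j : U ⟶ X) [IsOpenImmersion j]

/-- Restriction of a module in degree `-m`. -/
noncomputable def resShift (M : X.Modules) (m : ℤ) :
    (DCoh.restrictD j).obj ((DCoh.inD X M)⟦m⟧) ≅ (DCoh.inD U (M.restrict j))⟦m⟧ :=
  ((DCoh.restrictD j).commShiftIso m).app _ ≪≫ (shiftFunctor (DCoh.D U) m).mapIso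
    (((Scheme.Modules.restrictFunctor j).mapDerivedCategorySingleFunctor 0).app M)

/-- Restriction of a module in degree `0`. -/
noncomputable def res (M : X.Modules) : (DCoh.restrictD j).obj (DCoh.inD X M) ≅ DCoh.inD U (M.restrict j) :=
  ((Scheme.Modules.restrictFunctor j).mapDerivedCategorySingleFunctor 0).app M

theorem subsingleton_restrict_of_neg (F W : X.Modules) (m : ℤ) (hm : m < 0) :
    Subsingleton ((DCoh.restrictD j).obj (DCoh.inD X F) ⟶ (DCoh.restrictD j).obj ((DCoh.inD X W)⟦m⟧)) := by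
  have := subsingleton_hom_of_neg (F.restrict j) (W.restrict j) m hm
  exact ((res j F).homCongr (resShift j W m)).subsingleton

theorem subsingleton_restrict_iff {A B : X.Modules} (e : CohB1.tensorMod A B ≅ Coh.structureModule X)
    (W : X.Modules) (m : ℕ) :
    Subsingleton ((DCoh.restrictD j).obj (DCoh.inD X (F A)) ⟶
      (DCoh.restrictD j).obj ((DCoh.inD X W)⟦(m : ℤ)⟧)) ↔
      Subsingleton (Coh.HH U ((CohB1.tensorMod W B).restrict j) m) := by
  let T := DCoh.tensorRightMod (B.restrict j)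
  let e' : CohB1.tensorMod (A.restrict j) (B.restrict j) ≅ Coh.structureModule U :=
    (Ega3B.TensRestrict.restrictIso j A B).symm ≪≫ (Scheme.Modules.restrictFunctor j).mapIso e ≪≫
      Scheme.Modules.restrictUnitIso j
  have hT : T.IsEquivalence := Sga2.LefPow644.isEquivalence_of_inv (Ega2.Tens.swap _ _ ≪≫ e')
  let ε : (F A).restrict j ≅ A.restrict j := (Scheme.Modules.restrictFunctor j).mapIso (Ega2.Tens.lunit A)
  let e'' : T.obj ((F A).restrict j) ≅ Coh.structureModule U := T.mapIso ε ≪≫ e'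
  refine ((res j (F A)).homCongr (resShift j W m)).subsingleton_congr.trans
    ((subsingleton_hom_iff T e'' m).trans ?_)
  let i : (CohB1.tensorMod W B).restrict j ≅ T.obj (W.restrict j) := Ega3B.TensRestrict.restrictIso j W B
  exact ⟨fun h => Sga2.ThickCoh.subsingleton_HH_of_iso i.symm m h, fun h =>
    Sga2.ThickCoh.subsingleton_HH_of_iso i m h⟩

end K184.LefSys
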