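import Groth.Agent.Lef.K184.FormalDualProper
import Groth.Agent.Lef.K183.LimDual
import Groth.Agent.Sga2.LefPow644

/-!
# The comparison `Hom(B, O) → lim Hom(B, O/𝓘^{n+1})` for an invertible `B` by formal duality

`X` proper over a field with a perfect form for `W[n]`, `A ⊗ B ≅ O`, `j : U ⟶ X` the complement of `V(𝓘)`:
`Lef.HomToFormalBijective 𝓘 B` if and only if all morphisms `A → W[n]` vanish on `U` and all morphisms
`A|_U → W[n-1]|_U` extend to `X`.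
-/

set_option autoImplicit false
universe u
open CategoryTheory CategoryTheory.Limits CategoryTheory.Pretriangulated AlgebraicGeometry Opposite
attribute [local instance] HasDerivedCategory.standard

namespace K184.LefSys

open Groth.Agent Groth.Agent.CurvesC.RepX Groth.Agent.FormalB.KQuot Groth.Agent.FormalB.TrKQuot
  K184.FormalDual K184.DeligneMod K184.FormalDualAbs

variable {X : Scheme.{u}}

theorem pow_le (𝓘 : X.IdealSheafData) {t t' : ℕ} (h : t ≤ t') : 𝓘 ^ (t' + 1) ≤ 𝓘 ^ (t + 1) :=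
  Groth.Agent.Dual.H367.Kill.pow_le 𝓘 (Nat.succ_le_succ h)

/-- The module `O ⊗ A`. -/
noncomputable abbrev F (A : X.Modules) : X.Modules :=
  (DCoh.tensorRightMod A).obj (Coh.structureModule X)

/-- The system `(O ⊗ A → O/𝓘^{t+1} ⊗ A)`. -/
noncomputable def sys (𝓘 : X.IdealSheafData) (A : X.Modules) : Sys (F A) :=
  Sys.ofEpi (fun t => (DCoh.tensorRightMod A).obj (ClSub.quotMod (𝓘 ^ (t + 1))))
    (fun t => (DCoh.tensorRightMod A).map (ClSub.toSubscheme (𝓘 ^ (t + 1))))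
    (fun t => by
      have := Sga2.LefPow644.epi_toSubscheme (𝓘 ^ (t + 1))
      infer_instance)
    (fun h => (DCoh.tensorRightMod A).map (Lef.quotMap (pow_le 𝓘 h)))
    (fun h => by rw [← Functor.map_comp, Sga2.LefPow644.toSubscheme_quotMap])

theorem isKQuot_sys (𝓘 : X.IdealSheafData) {A B : X.Modules}
    (e : CohB1.tensorMod A B ≅ Coh.structureModule X) (t : ℕ) :
    IsKQuot (𝓘 ^ (t + 1)) ((sys 𝓘 A).q t) := by
  have hB : (DCoh.tensorRightMod A).IsEquivalence := Sga2.LefPow644.isEquivalence_of_inv e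
  let Ψ := Sga2.LefPow644.equivOfInv e
  have h1 := K183.LimDual.isKQuot_um (𝓘 ^ (t + 1))
  refine ⟨(sys 𝓘 A).epi_q t, Sga67.ClosedTens.killed_tensor h1.killed A, fun {Z} φ hZ => ?_⟩
  let ε : (DCoh.tensorRightMod A).obj ((DCoh.tensorRightMod B).obj Z) ≅ Z := Ψ.counitIso.app Z
  obtain ⟨φ', hφ'⟩ := (DCoh.tensorRightMod A).map_surjective (φ ≫ ε.inv)
  obtain ⟨ψ, hψ⟩ := h1.desc φ' (Sga67.ClosedTens.killed_tensor hZ B)
  refine ⟨(DCoh.tensorRightMod A).map ψ ≫ ε.hom, ?_⟩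
  have h2 : (sys 𝓘 A).q t ≫ (DCoh.tensorRightMod A).map ψ = (DCoh.tensorRightMod A).map φ' := by
    rw [← hψ, Functor.map_comp]
    rfl
  rw [← Category.assoc, h2, hφ', Category.assoc, Iso.inv_hom_id, Category.comp_id]

variable {U : Scheme.{u}} (j : U ⟶ X) [IsOpenImmersion j]

theorem kills [IsNoetherian X] {𝓘 : X.IdealSheafData} {A B : X.Modules}
    (e : CohB1.tensorMod A B ≅ Coh.structureModule X) (hF : Coh.IsCoh (F A))
    (hI : 𝓘.supportSetᶜ = Set.range j) : Kills j (sys 𝓘 A) := by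
  refine Kills.of_ideal j 𝓘 hF hI _ (fun t => ?_) (fun n => ?_) (fun t => ?_)
  · have h1 := isKQuot_sys 𝓘 e t
    have h2 : Coh.IsCoh ((sys 𝓘 A).Q t) := IsKQuot.isCoh h1 hF
    exact (PerfA.CohSerre.isCoh_kernel ((sys 𝓘 A).q t) hF h2.1).1
  · refine ⟨n, kernel.lift _ ((sys 𝓘 A).ι n) ?_, kernel.lift_ι _ _ _⟩
    obtain ⟨ψ, hψ⟩ := (isKQuot_sys 𝓘 e n).desc (kπ (𝓘 ^ n) (F A))
      (killedByIdeal_of_le (Groth.Agent.Dual.H367.Kill.pow_le 𝓘 (Nat.le_succ n)) (killed_pushforward _ _))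
    have h2 : (sys 𝓘 A).ι n ≫ kπ (𝓘 ^ n) (F A) = 0 := by
      rw [← hψ, ← Category.assoc, (sys 𝓘 A).w, zero_comp]
    exact h2
  · have h1 := isKQuot_kπ (𝓘 ^ (t + 1)) hF.1
    obtain ⟨ψ, hψ⟩ := h1.desc ((sys 𝓘 A).q t) (isKQuot_sys 𝓘 e t).killed
    have h2 : kernel.ι (kπ (𝓘 ^ (t + 1)) (F A)) ≫ (sys 𝓘 A).q t = 0 := by
      rw [← hψ, ← Category.assoc, kernel.condition, zero_comp]
    exact ⟨t + 1, kernel.lift ((sys 𝓘 A).q t) (kernel.ι (kπ (𝓘 ^ (t + 1)) (F A))) h2, kernel.lift_ι _ _ _⟩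

section

variable {A B : X.Modules} (e : CohB1.tensorMod A B ≅ Coh.structureModule X)

/-- `B ⊗ A ≅ O`. -/
noncomputable def ev : (DCoh.tensorRightMod A).obj B ≅ Coh.structureModule X := Ega2.Tens.swap B A ≪≫ e

/-- `Hom(B, G) ≅ Hom_D(O, G ⊗ A)`. -/
noncomputable def E (G : X.Modules) : (B ⟶ G) ≃ (P X ⟶ (ind X).obj ((DCoh.tensorRightMod A).obj G)) :=
  haveI := Sga2.LefPow644.isEquivalence_of_inv e
  ((Functor.FullyFaithful.ofFullyFaithful (DCoh.tensorRightMod A)).homEquiv.trans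
    ((ev e).homCongr (Iso.refl _))).trans
    ((Functor.FullyFaithful.ofFullyFaithful (ind X)).homEquiv)

theorem E_apply (G : X.Modules) (φ : B ⟶ G) : E e G φ =
    (ind X).map ((ev e).inv ≫ (DCoh.tensorRightMod A).map φ) :=
  congrArg (fun z => (ind X).map ((ev e).inv ≫ z)) (Category.comp_id _)

theorem E_comp {G H : X.Modules} (φ : B ⟶ G) (g : G ⟶ H) :
    E e H (φ ≫ g) = E e G φ ≫ (ind X).map ((DCoh.tensorRightMod A).map g) := by
  rw [E_apply, E_apply, ← Functor.map_comp, Functor.map_comp (DCoh.tensorRightMod A), Category.assoc]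

theorem E_zero (G : X.Modules) : E e G 0 = 0 := by
  rw [E_apply, Functor.map_zero, comp_zero, Functor.map_zero]

variable (𝓘 : X.IdealSheafData)

/-- `Hom(B, O) = Hom_D(O, O ⊗ A)`. -/
noncomputable def E0 : (B ⟶ Coh.structureModule X) ≃ (P X ⟶ (sys 𝓘 A).tower.F) := E e (Coh.structureModule X)

/-- `Hom(B, O/𝓘^{t+1}) = Hom_D(O, O/𝓘^{t+1} ⊗ A)`. -/
noncomputable def EQ (t : ℕ) : (B ⟶ ClSub.quotMod (𝓘 ^ (t + 1))) ≃ (P X ⟶ (sys 𝓘 A).tower.Q t) :=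
  E e (ClSub.quotMod (𝓘 ^ (t + 1)))

theorem EQ_comp (φ : B ⟶ Coh.structureModule X) (t : ℕ) :
    EQ e 𝓘 t (φ ≫ ClSub.toSubscheme (𝓘 ^ (t + 1))) = E0 e 𝓘 φ ≫ (sys 𝓘 A).tower.q t :=
  E_comp e φ _

theorem EQ_p (t t' : ℕ) (h : t ≤ t') (φ : B ⟶ ClSub.quotMod (𝓘 ^ (t' + 1))) :
    EQ e 𝓘 t (φ ≫ Lef.quotMap (pow_le 𝓘 h)) = EQ e 𝓘 t' φ ≫ (sys 𝓘 A).tower.p h :=
  E_comp e φ _

theorem EQ_zero (t : ℕ) : EQ e 𝓘 t 0 = 0 := E_zero e _

theorem E0_zero : E0 e 𝓘 0 = 0 := E_zero e _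

include e in
theorem homToFormalBijective_iff : Lef.HomToFormalBijective 𝓘 B ↔
    (∀ x : P X ⟶ (sys 𝓘 A).tower.F, (∀ t, x ≫ (sys 𝓘 A).tower.q t = 0) → x = 0) ∧
      ∀ y : ∀ t, P X ⟶ (sys 𝓘 A).tower.Q t,
        (∀ (t t' : ℕ) (h : t ≤ t'), y t' ≫ (sys 𝓘 A).tower.p h = y t) →
          ∃ x : P X ⟶ (sys 𝓘 A).tower.F, ∀ t, x ≫ (sys 𝓘 A).tower.q t = y t := by
  constructor
  · rintro ⟨h1, h2⟩
    refine ⟨fun x hx => ?_, fun y hy => ?_⟩
    · obtain ⟨φ, rfl⟩ := (E0 e 𝓘).surjective x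
      rw [h1 φ 0 fun n => ?_]
      · exact E0_zero e 𝓘
      · apply (EQ e 𝓘 n).injective
        rw [EQ_comp, hx, zero_comp, EQ_zero]
    · obtain ⟨φ, hφ⟩ := h2 (fun t => (EQ e 𝓘 t).symm (y t)) (by
        intro n
        apply (EQ e 𝓘 n).injective
        refine (EQ_p e 𝓘 n (n + 1) (Nat.le_succ n) _).trans ?_
        rw [Equiv.apply_symm_apply, Equiv.apply_symm_apply]
        exact hy n (n + 1) (Nat.le_succ n))
      exact ⟨E0 e 𝓘 φ, fun t => by rw [← EQ_comp, hφ, Equiv.apply_symm_apply]⟩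
  · rintro ⟨h1, h2⟩
    refine ⟨fun φ ψ h => ?_, fun y hy => ?_⟩
    · rw [← sub_eq_zero]
      apply (E0 e 𝓘).injective
      rw [E0_zero]
      apply h1
      intro t
      rw [← EQ_comp, Preadditive.sub_comp, h, sub_self, EQ_zero]
    · have hy' : ∀ (t t' : ℕ) (h : t ≤ t'), EQ e 𝓘 t' (y t') ≫ (sys 𝓘 A).tower.p h = EQ e 𝓘 t (y t) := by
        intro t t' h
        induction t', h using Nat.le_induction with
        | base => rw [(sys 𝓘 A).tower.p_refl, Category.comp_id]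
        | succ t' h ih =>
          rw [← ih, ← (sys 𝓘 A).tower.p_trans h (Nat.le_succ t'), ← Category.assoc]
          congr 1
          rw [← hy t']
          exact (EQ_p e 𝓘 t' (t' + 1) (Nat.le_succ t') (y (t' + 1))).symm
      obtain ⟨x, hx⟩ := h2 (fun t => EQ e 𝓘 t (y t)) hy'
      obtain ⟨φ, rfl⟩ := (E0 e 𝓘).surjective x
      refine ⟨φ, fun t => (EQ e 𝓘 t).injective ?_⟩
      rw [EQ_comp, hx]

end

end K184.LefSys
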